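import Groth.Agent.L25.Cocycle.LiftHom

/-!
# Subgroups of multiplicative type which agree modulo a nilpotent ideal
-/

set_option autoImplicit false
universe u

open CategoryTheory CategoryTheory.Limits MonoidalCategory CartesianMonoidalCategory MonObj GrpObj
open AlgebraicGeometry

set_option backward.isDefEq.respectTransparency.types false

noncomputable section

namespace Groth.L25.Cocycle

variable {R : Type u} [CommRing R] {H H' G : Over (Spec (CommRingCat.of R))}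

/-- points over the zero ideal -/
def toZBot : 𝟙_ (Over (Spec (CommRingCat.of R))) ⟶ Z (⊥ : Ideal R) :=
  Over.homMk (Spec.map (CommRingCat.ofHom (Ideal.Quotient.lift (⊥ : Ideal R) (RingHom.id R)
      fun r hr => Ideal.mem_bot.1 hr))) (by
    show Spec.map _ ≫ Spec.map _ = 𝟙 _
    rw [← Spec.map_comp, ← CommRingCat.ofHom_comp, Ideal.Quotient.lift_comp_mk, CommRingCat.ofHom_id, Spec.map_id])

/-- a subobject equal to another one modulo an ideal: points over it factor -/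
theorem exists_factor_of_bc {J : Ideal R} (i : H ⟶ G) (i' : H' ⟶ G)
    (ψ : (Over.pullback (Spec.map (CommRingCat.ofHom (Ideal.Quotient.mk J)))).obj H ⟶
      (Over.pullback (Spec.map (CommRingCat.ofHom (Ideal.Quotient.mk J)))).obj H')
    (hψ : ψ ≫ (Over.pullback (Spec.map (CommRingCat.ofHom (Ideal.Quotient.mk J)))).map i' =
      (Over.pullback (Spec.map (CommRingCat.ofHom (Ideal.Quotient.mk J)))).map i)
    (Y : Over (Spec (CommRingCat.of R))) (q : Y ⟶ Z J) (h : Y ⟶ H) : ∃ h' : Y ⟶ H', h' ≫ i' = h ≫ i := by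
  let π : Spec (CommRingCat.of (R ⧸ J)) ⟶ Spec (CommRingCat.of R) :=
    Spec.map (CommRingCat.ofHom (Ideal.Quotient.mk J))
  let pt : Over.mk q.left ⟶ (Over.pullback π).obj H :=
    Over.homMk (pullback.lift h.left q.left ((Over.w h).trans (Over.w q).symm)) (pullback.lift_snd _ _ _)
  let y : Y.left ⟶ pullback H'.hom π := (pt ≫ ψ).left
  have hy : y ≫ pullback.snd H'.hom π = q.left := Over.w (pt ≫ ψ)
  refine ⟨Over.homMk (y ≫ pullback.fst H'.hom π) (by
    rw [Category.assoc, pullback.condition, reassoc_of% hy]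
    exact Over.w q), Over.OverMorphism.ext ?_⟩
  have h1 := congrArg (fun m => (pt ≫ m).left ≫ pullback.fst G.hom π) hψ
  simp only [π, Over.comp_left, Over.pullback_map_left, Category.assoc, pullback.lift_fst] at h1
  show (y ≫ pullback.fst H'.hom π) ≫ i'.left = h.left ≫ i.left
  simp only [y, π, Over.comp_left, Category.assoc]
  refine h1.trans ?_
  exact pullback.lift_fst_assoc _ _ _ _

variable [GrpObj H] [GrpObj H'] [GrpObj G]
variable (hH : TwC.Locally (Spec (CommRingCat.of R)) TwC.Topology.fpqc (fun S' f =>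
    ∃ (M : Type) (_ : AddCommGroup M), Nonempty (Grp.mk (Red.bc f H) ≅ Grp.mk (Red.DS S' M))))
  (hH' : TwC.Locally (Spec (CommRingCat.of R)) TwC.Topology.fpqc (fun S' f =>
    ∃ (M : Type) (_ : AddCommGroup M), Nonempty (Grp.mk (Red.bc f H') ≅ Grp.mk (Red.DS S' M))))

include hH in
/-- a homomorphism agreeing with a central one modulo a nilpotent ideal is equal to it -/
theorem eq_of_agree_of_central {J : Ideal R} (hJ : IsNilpotent J) (u v : H ⟶ G) [IsMonHom u] [IsMonHom v]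
    (hc : ∀ (X : Over (Spec (CommRingCat.of R))) (g : X ⟶ G) (h : X ⟶ H), g * (h ≫ u) = (h ≫ u) * g)
    (hA : AgreeMod J u v) : u = v := by
  obtain ⟨N, hN⟩ := hJ
  have key : ∀ k : ℕ, AgreeMod (J ^ (k + 1)) u v := by
    intro k
    induction k with
    | zero => exact fun Y q h => hA Y (q ≫ zMap (by rw [pow_one])) h
    | succ k ih =>
      obtain ⟨g, -, hg⟩ := exists_conj_step hH (Ideal.pow_le_pow_right (I := J) (Nat.le_succ (k + 1)))
        (by rw [← pow_add]; exact Ideal.pow_le_pow_right (by omega)) u v ih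
      intro Y q h
      rw [hg Y q h, hc, mul_inv_cancel_right]
  have h0 : (⊥ : Ideal R) = J ^ (N + 1) := by rw [pow_succ, hN, Ideal.zero_eq_bot, Ideal.bot_mul]
  have h1 := key N H (toUnit H ≫ toZBot ≫ eqToHom (by rw [h0])) (𝟙 H)
  rwa [Category.id_comp, Category.id_comp] at h1

include hH hH' in
/-- central subgroups -/
theorem exists_iso_of_central {J : Ideal R} (hJ : IsNilpotent J) (i : H ⟶ G) (i' : H' ⟶ G) [IsMonHom i]
    [IsMonHom i'] [Mono i] [Mono i']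
    (hc : ∀ (X : Over (Spec (CommRingCat.of R))) (g : X ⟶ G) (h : X ⟶ H), g * (h ≫ i) = (h ≫ i) * g)
    (h1 : ∀ (Y : Over (Spec (CommRingCat.of R))) (_ : Y ⟶ Z J) (h : Y ⟶ H), ∃ h' : Y ⟶ H', h' ≫ i' = h ≫ i)
    (h2 : ∀ (Y : Over (Spec (CommRingCat.of R))) (_ : Y ⟶ Z J) (h : Y ⟶ H'), ∃ h' : Y ⟶ H, h' ≫ i = h ≫ i') :
    ∃ φ : H ≅ H', φ.hom ≫ i' = i := by
  obtain ⟨φ, hφ, hA⟩ := exists_hom_lift hH hH' hJ i i' h1
  obtain ⟨φ', hφ', hA'⟩ := exists_hom_lift hH' hH hJ i' i h2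
  have e1 : φ ≫ i' = i :=
    (eq_of_agree_of_central hH hJ i (φ ≫ i') hc (fun Y q h => (hA Y q h).symm)).symm
  have e2 : φ' ≫ i = i' :=
    eq_of_agree_of_central hH' hJ (φ' ≫ i) i' (fun X g h => by rw [← Category.assoc]; exact hc X g (h ≫ φ')) hA'
  exact ⟨⟨φ, φ', (cancel_mono i).1 (by rw [Category.assoc, e2, e1, Category.id_comp]),
    (cancel_mono i').1 (by rw [Category.assoc, e1, e2, Category.id_comp])⟩, e1⟩

include hH hH' in
/-- conjugation of subgroups agreeing modulo an ideal of square zero -/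
theorem exists_conjBy_squareZero {J : Ideal R} (hJ : J ^ 2 = ⊥) (i : H ⟶ G) (i' : H' ⟶ G) [IsMonHom i]
    [IsMonHom i'] [Mono i] [Mono i']
    (h1 : ∀ (Y : Over (Spec (CommRingCat.of R))) (_ : Y ⟶ Z J) (h : Y ⟶ H), ∃ h' : Y ⟶ H', h' ≫ i' = h ≫ i)
    (h2 : ∀ (Y : Over (Spec (CommRingCat.of R))) (_ : Y ⟶ Z J) (h : Y ⟶ H'), ∃ h' : Y ⟶ H, h' ≫ i = h ≫ i') :
    ∃ g : 𝟙_ (Over (Spec (CommRingCat.of R))) ⟶ G, toUnit (Z J) ≫ g = 1 ∧ SGA3x.ConjBy i i' g := by
  have hn : IsNilpotent J := ⟨2, hJ⟩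
  obtain ⟨φ, hφ, hA⟩ := exists_hom_lift hH hH' hn i i' h1
  obtain ⟨φ', hφ', hA'⟩ := exists_hom_lift hH' hH hn i' i h2
  have e1 : φ ≫ φ' = 𝟙 H := hom_eq_of_agree hH hH hn _ _ fun Y q h => (cancel_mono i).1 (by
    rw [Category.comp_id, Category.assoc, Category.assoc, ← Category.assoc h φ (φ' ≫ i),
      hA' Y q (h ≫ φ), Category.assoc]
    exact hA Y q h)
  have e2 : φ' ≫ φ = 𝟙 H' := hom_eq_of_agree hH' hH' hn _ _ fun Y q h => (cancel_mono i').1 (by
    rw [Category.comp_id, Category.assoc, Category.assoc, ← Category.assoc h φ' (φ ≫ i'),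
      hA Y q (h ≫ φ'), Category.assoc]
    exact hA' Y q h)
  obtain ⟨g, hg1, hg⟩ := exists_conj_step hH (I := ⊥) (I' := J) bot_le (by rw [← pow_two, hJ]) i (φ ≫ i')
    (fun Y q h => (hA Y q h).symm)
  refine ⟨toZBot ≫ g, ?_, ⟨φ, φ', e1, e2⟩, ?_⟩
  · rw [← Category.assoc, hom_Z_subsingleton (toUnit (Z J) ≫ toZBot) (zMap bot_le), hg1]
  · have h3 := hg H (toUnit H ≫ toZBot) (𝟙 H)
    rw [Category.id_comp, Category.id_comp, Category.assoc] at h3
    exact h3.symm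

include hH hH' in
/-- conjugation of subgroups of a smooth group conjugate modulo a nilpotent ideal -/
theorem exists_conjBy_lift [Smooth G.hom] {J : Ideal R} (hJ : IsNilpotent J) (i : H ⟶ G) (i' : H' ⟶ G)
    [IsMonHom i] [IsMonHom i'] [Mono i] [Mono i'] (g₀ : Z J ⟶ G)
    (h0 : ∀ (X : Over (Spec (CommRingCat.of R))) (p : X ⟶ Z J),
      (∀ h : X ⟶ H, ∃ h' : X ⟶ H', (p ≫ g₀) * (h ≫ i) * (p ≫ g₀)⁻¹ = h' ≫ i') ∧
      (∀ h' : X ⟶ H', ∃ h : X ⟶ H, (p ≫ g₀)⁻¹ * (h' ≫ i') * (p ≫ g₀) = h ≫ i)) :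
    ∃ g : 𝟙_ (Over (Spec (CommRingCat.of R))) ⟶ G, toUnit (Z J) ≫ g = g₀ ∧ SGA3x.ConjBy i i' g := by
  obtain ⟨gt, hgt⟩ := exists_lift_point hJ g₀
  have hp : ∀ (Y : Over (Spec (CommRingCat.of R))) (q : Y ⟶ Z J), toUnit Y ≫ gt = q ≫ g₀ := fun Y q => by
    rw [← hgt, ← Category.assoc, toUnit_unique (q ≫ toUnit _) (toUnit Y)]
  obtain ⟨φ, hφ, hA⟩ := exists_hom_lift hH hH' hJ (intBy gt i) i' (fun Y q h => by
    obtain ⟨h', e⟩ := (h0 Y q).1 h
    exact ⟨h', by rw [comp_intBy, hp Y q, e]⟩)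
  obtain ⟨φ', hφ', hA'⟩ := exists_hom_lift hH' hH hJ (intBy gt⁻¹ i') i (fun Y q h => by
    obtain ⟨h', e⟩ := (h0 Y q).2 h
    exact ⟨h', by rw [comp_intBy, GrpObj.comp_inv, _root_.inv_inv, hp Y q, e]⟩)
  have e1 : φ ≫ φ' = 𝟙 H := hom_eq_of_agree hH hH hJ _ _ fun Y q h => (cancel_mono i).1 (by
    rw [Category.comp_id, Category.assoc, Category.assoc, ← Category.assoc h φ (φ' ≫ i),
      hA' Y q (h ≫ φ), comp_intBy, Category.assoc, hA Y q h, comp_intBy, GrpObj.comp_inv]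
    group)
  have e2 : φ' ≫ φ = 𝟙 H' := hom_eq_of_agree hH' hH' hJ _ _ fun Y q h => (cancel_mono i').1 (by
    rw [Category.comp_id, Category.assoc, Category.assoc, ← Category.assoc h φ' (φ ≫ i'),
      hA Y q (h ≫ φ'), comp_intBy, Category.assoc, hA' Y q h, comp_intBy, GrpObj.comp_inv]
    group)
  obtain ⟨g₁, hg₁, hg⟩ := exists_conj_nilpotent hH hJ (intBy gt i) (φ ≫ i') (fun Y q h => (hA Y q h).symm)
  refine ⟨g₁ * gt, by rw [MonObj.comp_mul, hg₁, _root_.one_mul, hgt], ⟨φ, φ', e1, e2⟩, ?_⟩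
  have h3 := hg H (𝟙 H)
  rw [Category.id_comp, comp_intBy, Category.id_comp] at h3
  rw [MonObj.comp_mul]
  show _ = φ ≫ i'
  rw [h3]
  group

end Groth.L25.Cocycle
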