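import Mathlib.AlgebraicGeometry.Sites.Fpqc
import Mathlib.AlgebraicGeometry.Limits
import Mathlib.AlgebraicGeometry.AffineScheme
import Mathlib.AlgebraicGeometry.Morphisms.Flat
import Mathlib.AlgebraicGeometry.Gluing

/-!
# Morphisms given on the affine points over a finite faithfully flat family
-/

set_option autoImplicit false
universe u

open CategoryTheory CategoryTheory.Limits AlgebraicGeometry

set_option backward.isDefEq.respectTransparency.types false

noncomputable section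

namespace Groth.L25.Cocycle.Glue

variable {R : Type u} [CommRing R] {idx : Type u} [Finite idx] {C : idx → Type u} [∀ i, CommRing (C i)]
  (θ : ∀ i, R →+* C i) {Y X : Scheme.{u}} (p : Y ⟶ Spec (CommRingCat.of R))

/-- an affine point of `Y` over a member of the family -/
def Pts (i : idx) (B : Type u) [CommRing B] : Type _ :=
  { x : (C i →+* B) × (Spec (CommRingCat.of B) ⟶ Y) //
    x.2 ≫ p = Spec.map (CommRingCat.ofHom x.1) ≫ Spec.map (CommRingCat.ofHom (θ i)) }

variable {θ p}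

/-- change of the ring of a point -/
def Pts.map {i : idx} {B B' : Type u} [CommRing B] [CommRing B'] (b : B →+* B') (x : Pts θ p i B) :
    Pts θ p i B' :=
  ⟨(b.comp x.1.1, Spec.map (CommRingCat.ofHom b) ≫ x.1.2), by
    rw [Category.assoc, x.2, ← Spec.map_comp_assoc]; rfl⟩

variable (θ p)

/-- a compatible family of values -/
structure Values (X : Scheme.{u}) where
  val : ∀ (i : idx) (B : Type u) [CommRing B], Pts θ p i B → (Spec (CommRingCat.of B) ⟶ X)
  nat : ∀ (i : idx) {B B' : Type u} [CommRing B] [CommRing B'] (b : B →+* B') (x : Pts θ p i B),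
    Spec.map (CommRingCat.ofHom b) ≫ val i B x = val i B' (x.map b)
  compat : ∀ (i k : idx) (B : Type u) [CommRing B] (x : Pts θ p i B) (y : Pts θ p k B),
    x.1.2 = y.1.2 → val i B x = val k B y

variable {θ p}

/-- the family of the pieces -/
abbrev src (C : idx → Type u) [∀ i, CommRing (C i)] (i : idx) : Scheme.{u} := Spec (CommRingCat.of (C i))

theorem exists_desc (hflat : ∀ i, Flat (Spec.map (CommRingCat.ofHom (θ i))))
    (hsurj : ∀ x : Spec (CommRingCat.of R), ∃ i, x ∈ Set.range (Spec.map (CommRingCat.ofHom (θ i))))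
    (V : Values θ p X) :
    ∃ φ : Y ⟶ X, ∀ (i : idx) (B : Type u) [CommRing B] (x : Pts θ p i B), x.1.2 ≫ φ = V.val i B x := by
  let pT : (∐ src C) ⟶ Spec (CommRingCat.of R) := Sigma.desc fun i => Spec.map (CommRingCat.ofHom (θ i))
  have : Flat pT := IsZariskiLocalAtSource.sigmaDesc fun i => hflat i
  have : Surjective pT := ⟨fun x => by
    obtain ⟨i, q, hq⟩ := hsurj x
    refine ⟨Sigma.ι (src C) i q, ?_⟩
    rw [← Scheme.Hom.comp_apply, Sigma.ι_desc]
    exact hq⟩
  have : QuasiCompact pT := inferInstance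
  let Z := pullback p pT
  let q : Z ⟶ Y := pullback.fst p pT
  -- affine charts of `Z` inside the pieces
  have key : ∀ z : Z, ∃ (i : idx) (B : CommRingCat.{u}) (o : Spec B ⟶ Z) (_ : IsOpenImmersion o)
      (α : CommRingCat.of (C i) ⟶ B), z ∈ Set.range o ∧ o ≫ pullback.snd p pT = Spec.map α ≫ Sigma.ι (src C) i := by
    intro z
    obtain ⟨i, w, hw⟩ := (sigmaOpenCover (src C)).exists_eq (pullback.snd p pT z)
    let W : Z.Opens := pullback.snd p pT ⁻¹ᵁ (Sigma.ι (src C) i).opensRange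
    obtain ⟨_, ⟨D, hD, rfl⟩, hzD, hle⟩ := Z.isBasis_affineOpens.exists_subset_of_mem_open
      (show z ∈ W from ⟨w, hw⟩) W.2
    have hr : Set.range (hD.fromSpec ≫ pullback.snd p pT) ⊆ Set.range (Sigma.ι (src C) i) := by
      rintro _ ⟨t, rfl⟩
      exact hle (hD.range_fromSpec.le ⟨t, rfl⟩)
    obtain ⟨α, hα⟩ := Spec.map_surjective (IsOpenImmersion.lift _ _ hr)
    exact ⟨i, _, hD.fromSpec, inferInstance, α, hD.range_fromSpec.ge hzD, by rw [hα, IsOpenImmersion.lift_fac]⟩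
  choose i B o ho α hzo hα using key
  have hw : ∀ z, (o z ≫ q) ≫ p = Spec.map (α z) ≫ Spec.map (CommRingCat.ofHom (θ (i z))) := fun z => by
    rw [Category.assoc, show q ≫ p = pullback.snd p pT ≫ pT from pullback.condition, reassoc_of% (hα z), Sigma.ι_desc]
  let f : ∀ z, Spec (B z) ⟶ X := fun z => V.val (i z) (B z) ⟨((α z).hom, o z ≫ q), hw z⟩
  let 𝒰 : Z.OpenCover := Z.openCoverOfIsOpenCover (fun z => (o z).opensRange) (TopologicalSpace.IsOpenCover.mk
      (top_le_iff.1 fun z _ => TopologicalSpace.Opens.mem_iSup.2 ⟨z, hzo z⟩))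
  have hagree : ∀ (z z' : Z) (B' : CommRingCat.{u}) (a : Spec B' ⟶ Spec (B z)) (a' : Spec B' ⟶ Spec (B z')),
      a ≫ o z = a' ≫ o z' → a ≫ f z = a' ≫ f z' := by
    intro z z' B' a a' h
    obtain ⟨b, rfl⟩ := Spec.map_surjective a
    obtain ⟨b', rfl⟩ := Spec.map_surjective a'
    refine (V.nat (i z) b.hom _).trans (Eq.trans ?_ (V.nat (i z') b'.hom _).symm)
    refine V.compat _ _ _ _ _ ?_
    show Spec.map b ≫ o z ≫ q = Spec.map b' ≫ o z' ≫ q
    rw [reassoc_of% h]
  have hf : ∀ z z' : Z, pullback.fst (𝒰.f z) (𝒰.f z') ≫ (o z).isoOpensRange.inv ≫ f z =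
      pullback.snd (𝒰.f z) (𝒰.f z') ≫ (o z').isoOpensRange.inv ≫ f z' := fun z z' => by
    refine Scheme.Cover.hom_ext (pullback (𝒰.f z) (𝒰.f z')).affineCover _ _ fun t => ?_
    let c := (pullback (𝒰.f z) (𝒰.f z')).affineCover.f t
    have h := hagree z z' _ (c ≫ pullback.fst (𝒰.f z) (𝒰.f z') ≫ (o z).isoOpensRange.inv)
      (c ≫ pullback.snd (𝒰.f z) (𝒰.f z') ≫ (o z').isoOpensRange.inv) (by
        simp only [Category.assoc]
        erw [Scheme.Hom.isoOpensRange_inv_comp, Scheme.Hom.isoOpensRange_inv_comp]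
        exact c ≫= pullback.condition)
    simp only [Category.assoc] at h
    exact h
  let gZ : Z ⟶ X := 𝒰.glueMorphisms (fun z => (o z).isoOpensRange.inv ≫ f z) hf
  have hgZ : ∀ z, o z ≫ gZ = f z := fun z => by
    have := Scheme.Cover.ι_glueMorphisms 𝒰 (fun z => (o z).isoOpensRange.inv ≫ f z) hf z
    rw [← cancel_epi (o z).isoOpensRange.inv, Scheme.Hom.isoOpensRange_inv_comp_assoc]
    exact this
  have spec : ∀ (k : idx) (B' : CommRingCat.{u}) (β : CommRingCat.of (C k) ⟶ B') (w : Spec B' ⟶ Z)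
      (h : w ≫ pullback.snd p pT = Spec.map β ≫ Sigma.ι (src C) k) (hx : (w ≫ q) ≫ p = Spec.map β ≫ Spec.map (CommRingCat.ofHom (θ k))),
      w ≫ gZ = V.val k B' ⟨(β.hom, w ≫ q), hx⟩ := by
    intro k B' β w h hx
    have hcov : ∀ t : Spec B', ∃ (B'' : CommRingCat.{u}) (b : B' ⟶ B'') (a : Spec B'' ⟶ Spec (B (w t))),
        IsOpenImmersion (Spec.map b) ∧ t ∈ Set.range (Spec.map b) ∧ a ≫ o (w t) = Spec.map b ≫ w := by
      intro t
      obtain ⟨_, ⟨D, hD, rfl⟩, htD, hle⟩ := (Spec B').isBasis_affineOpens.exists_subset_of_mem_open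
        (show t ∈ w ⁻¹ᵁ (o (w t)).opensRange from hzo (w t)) (w ⁻¹ᵁ (o (w t)).opensRange).2
      obtain ⟨b, hb⟩ := Spec.map_surjective hD.fromSpec
      have hr : Set.range (Spec.map b ≫ w) ⊆ Set.range (o (w t)) := by
        rintro _ ⟨s, rfl⟩
        rw [hb]
        exact hle (hD.range_fromSpec.le ⟨s, rfl⟩)
      exact ⟨_, b, IsOpenImmersion.lift _ _ hr, by rw [hb]; infer_instance,
        by rw [hb]; exact hD.range_fromSpec.ge htD, IsOpenImmersion.lift_fac _ _ _⟩
    choose B'' b a hbo htb hab using hcov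
    refine ((Spec B').openCoverOfIsOpenCover (fun t => haveI := hbo t; (Spec.map (b t)).opensRange)
      (TopologicalSpace.IsOpenCover.mk
        (top_le_iff.1 fun t _ => TopologicalSpace.Opens.mem_iSup.2 ⟨t, htb t⟩))).hom_ext _ _ fun t => ?_
    have := hbo t
    suffices h1 : Spec.map (b t) ≫ w ≫ gZ = Spec.map (b t) ≫ V.val k B' ⟨(β.hom, w ≫ q), hx⟩ by
      have h2 := congrArg ((Spec.map (b t)).isoOpensRange.inv ≫ ·) h1
      simp only [Scheme.Hom.isoOpensRange_inv_comp_assoc] at h2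
      exact h2
    rw [← reassoc_of% (hab t), hgZ]
    obtain ⟨a', ha'⟩ := Spec.map_surjective (a t)
    rw [← ha']
    refine (V.nat (i (w t)) a'.hom _).trans (Eq.trans ?_ (V.nat k (b t).hom ⟨(β.hom, w ≫ q), hx⟩).symm)
    refine V.compat _ _ _ _ _ ?_
    show Spec.map a' ≫ o (w t) ≫ q = Spec.map (b t) ≫ w ≫ q
    rw [ha', reassoc_of% (hab t)]
  have cond : ∀ {W : Scheme.{u}} (a b : W ⟶ Z), a ≫ q = b ≫ q → a ≫ gZ = b ≫ gZ := by
    intro W a b hab
    have hcov : ∀ t : W, ∃ (k k' : idx) (B' : CommRingCat.{u}) (c : Spec B' ⟶ W) (_ : IsOpenImmersion c)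
        (β : CommRingCat.of (C k) ⟶ B') (β' : CommRingCat.of (C k') ⟶ B'), t ∈ Set.range c ∧
        (c ≫ a) ≫ pullback.snd p pT = Spec.map β ≫ Sigma.ι (src C) k ∧
        (c ≫ b) ≫ pullback.snd p pT = Spec.map β' ≫ Sigma.ι (src C) k' := by
      intro t
      obtain ⟨k, s, hs⟩ := (sigmaOpenCover (src C)).exists_eq ((a ≫ pullback.snd p pT) t)
      obtain ⟨k', s', hs'⟩ := (sigmaOpenCover (src C)).exists_eq ((b ≫ pullback.snd p pT) t)
      let O : W.Opens := (a ≫ pullback.snd p pT) ⁻¹ᵁ (Sigma.ι (src C) k).opensRange ⊓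
        (b ≫ pullback.snd p pT) ⁻¹ᵁ (Sigma.ι (src C) k').opensRange
      obtain ⟨_, ⟨D, hD, rfl⟩, htD, hle⟩ := W.isBasis_affineOpens.exists_subset_of_mem_open
        (show t ∈ O from ⟨⟨s, hs⟩, ⟨s', hs'⟩⟩) O.2
      have hr : Set.range (hD.fromSpec ≫ a ≫ pullback.snd p pT) ⊆ Set.range (Sigma.ι (src C) k) := by
        rintro _ ⟨r, rfl⟩
        exact (hle (hD.range_fromSpec.le ⟨r, rfl⟩)).1
      have hr' : Set.range (hD.fromSpec ≫ b ≫ pullback.snd p pT) ⊆ Set.range (Sigma.ι (src C) k') := by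
        rintro _ ⟨r, rfl⟩
        exact (hle (hD.range_fromSpec.le ⟨r, rfl⟩)).2
      obtain ⟨β, hβ⟩ := Spec.map_surjective (IsOpenImmersion.lift _ _ hr)
      obtain ⟨β', hβ'⟩ := Spec.map_surjective (IsOpenImmersion.lift _ _ hr')
      exact ⟨k, k', _, hD.fromSpec, inferInstance, β, β', hD.range_fromSpec.ge htD,
        by rw [hβ, IsOpenImmersion.lift_fac, Category.assoc],
        by rw [hβ', IsOpenImmersion.lift_fac, Category.assoc]⟩
    choose k k' B' c hc β β' htc h1 h2 using hcov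
    refine (W.openCoverOfIsOpenCover (fun t => (c t).opensRange) (TopologicalSpace.IsOpenCover.mk
      (top_le_iff.1 fun t _ => TopologicalSpace.Opens.mem_iSup.2 ⟨t, htc t⟩))).hom_ext _ _ fun t => ?_
    suffices h3 : (c t ≫ a) ≫ gZ = (c t ≫ b) ≫ gZ by
      simp only [Category.assoc] at h3
      have h4 := congrArg ((c t).isoOpensRange.inv ≫ ·) h3
      simp only [Scheme.Hom.isoOpensRange_inv_comp_assoc] at h4
      exact h4
    have hp : ∀ (l : idx) (γ : CommRingCat.of (C l) ⟶ B' t) (w : Spec (B' t) ⟶ Z),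
        w ≫ pullback.snd p pT = Spec.map γ ≫ Sigma.ι (src C) l →
        (w ≫ q) ≫ p = Spec.map γ ≫ Spec.map (CommRingCat.ofHom (θ l)) := fun l γ w hwl => by
      rw [Category.assoc, show q ≫ p = pullback.snd p pT ≫ pT from pullback.condition, reassoc_of% hwl, Sigma.ι_desc]
    rw [spec _ _ _ _ (h1 t) (hp _ _ _ (h1 t)), spec _ _ _ _ (h2 t) (hp _ _ _ (h2 t))]
    refine V.compat _ _ _ _ _ ?_
    show (c t ≫ a) ≫ q = (c t ≫ b) ≫ q
    rw [Category.assoc, Category.assoc, hab]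
  refine ⟨EffectiveEpi.desc q gZ (fun {W} a b h => cond a b h), fun k B' _ x => ?_⟩
  let w : Spec (CommRingCat.of B') ⟶ Z := pullback.lift x.1.2 (Spec.map (CommRingCat.ofHom x.1.1) ≫ Sigma.ι (src C) k) (by
    rw [Category.assoc, Sigma.ι_desc]; exact x.2)
  have hwq : w ≫ q = x.1.2 := pullback.lift_fst _ _ _
  calc x.1.2 ≫ EffectiveEpi.desc q gZ _ = w ≫ q ≫ EffectiveEpi.desc q gZ _ := by rw [← Category.assoc, hwq]
    _ = w ≫ gZ := by rw [EffectiveEpi.fac]
    _ = V.val k B' ⟨(x.1.1, w ≫ q), by rw [hwq]; exact x.2⟩ :=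
        spec k (CommRingCat.of B') (CommRingCat.ofHom x.1.1) w (pullback.lift_snd _ _ _) _
    _ = V.val k B' x := V.compat _ _ _ _ _ hwq

end Groth.L25.Cocycle.Glue

namespace Groth.L25.Cocycle.Glue

variable {R : Type u} [CommRing R] {idx : Type u} [Finite idx] {C : idx → Type u} [∀ i, CommRing (C i)]
  {θ : ∀ i, R →+* C i} {Y X : Scheme.{u}} {p : Y ⟶ Spec (CommRingCat.of R)}

/-- morphisms agreeing on all affine points over the family are equal -/
theorem ext_pts (hflat : ∀ i, Flat (Spec.map (CommRingCat.ofHom (θ i))))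
    (hsurj : ∀ x : Spec (CommRingCat.of R), ∃ i, x ∈ Set.range (Spec.map (CommRingCat.ofHom (θ i))))
    (a b : Y ⟶ X)
    (h : ∀ (i : idx) (B : Type u) [CommRing B] (x : Pts θ p i B), x.1.2 ≫ a = x.1.2 ≫ b) : a = b := by
  let pT : (∐ src C) ⟶ Spec (CommRingCat.of R) := Sigma.desc fun i => Spec.map (CommRingCat.ofHom (θ i))
  have : Flat pT := IsZariskiLocalAtSource.sigmaDesc fun i => hflat i
  have : Surjective pT := ⟨fun x => by
    obtain ⟨i, q, hq⟩ := hsurj x
    refine ⟨Sigma.ι (src C) i q, ?_⟩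
    rw [← Scheme.Hom.comp_apply, Sigma.ι_desc]
    exact hq⟩
  let Z := pullback p pT
  let q : Z ⟶ Y := pullback.fst p pT
  have : Epi q := Flat.epi_of_flat_of_surjective _
  rw [← cancel_epi q]
  have key : ∀ z : Z, ∃ (i : idx) (B : CommRingCat.{u}) (o : Spec B ⟶ Z) (_ : IsOpenImmersion o)
      (α : CommRingCat.of (C i) ⟶ B), z ∈ Set.range o ∧ o ≫ pullback.snd p pT = Spec.map α ≫ Sigma.ι (src C) i := by
    intro z
    obtain ⟨i, w, hw⟩ := (sigmaOpenCover (src C)).exists_eq (pullback.snd p pT z)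
    let W : Z.Opens := pullback.snd p pT ⁻¹ᵁ (Sigma.ι (src C) i).opensRange
    obtain ⟨_, ⟨D, hD, rfl⟩, hzD, hle⟩ := Z.isBasis_affineOpens.exists_subset_of_mem_open
      (show z ∈ W from ⟨w, hw⟩) W.2
    have hr : Set.range (hD.fromSpec ≫ pullback.snd p pT) ⊆ Set.range (Sigma.ι (src C) i) := by
      rintro _ ⟨t, rfl⟩
      exact hle (hD.range_fromSpec.le ⟨t, rfl⟩)
    obtain ⟨α, hα⟩ := Spec.map_surjective (IsOpenImmersion.lift _ _ hr)
    exact ⟨i, _, hD.fromSpec, inferInstance, α, hD.range_fromSpec.ge hzD, by rw [hα, IsOpenImmersion.lift_fac]⟩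
  choose i B o ho α hzo hα using key
  refine (Z.openCoverOfIsOpenCover (fun z => (o z).opensRange) (TopologicalSpace.IsOpenCover.mk
      (top_le_iff.1 fun z _ => TopologicalSpace.Opens.mem_iSup.2 ⟨z, hzo z⟩))).hom_ext _ _ fun z => ?_
  suffices h1 : o z ≫ q ≫ a = o z ≫ q ≫ b by
    have h2 := congrArg ((o z).isoOpensRange.inv ≫ ·) h1
    simp only [Scheme.Hom.isoOpensRange_inv_comp_assoc] at h2
    exact h2
  have hx : (o z ≫ q) ≫ p = Spec.map (α z) ≫ Spec.map (CommRingCat.ofHom (θ (i z))) := by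
    rw [Category.assoc, show q ≫ p = pullback.snd p pT ≫ pT from pullback.condition, reassoc_of% (hα z), Sigma.ι_desc]
  simpa only [Category.assoc] using h (i z) (B z) ⟨((α z).hom, o z ≫ q), hx⟩

end Groth.L25.Cocycle.Glue
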