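import Groth.Agent.L25.Cocycle.Descend
import Groth.Agent.L20.SmoothLocal.Main
import Mathlib.AlgebraicGeometry.Morphisms.Smooth

/-!
# Conjugacy of homomorphisms modulo a nilpotent ideal
-/

set_option autoImplicit false
universe u

open CategoryTheory CategoryTheory.Limits MonoidalCategory CartesianMonoidalCategory MonObj GrpObj
open AlgebraicGeometry

set_option backward.isDefEq.respectTransparency.types false

noncomputable section

namespace Groth.L25.Cocycle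

theorem isFormallySmoothHom_of_smooth {X Y : Scheme.{u}} (f : X ⟶ Y) [Smooth f] :
    MoreMor.IsFormallySmoothHom f := by
  refine Groth.L20.SmoothLocal.isFormallySmoothHom_of_charts fun x => ?_
  obtain ⟨c, hc⟩ := Groth.L20.SmoothLocal.exists_chart f x
  refine ⟨c, hc, ?_⟩
  letI := (f.appLE c.V c.U c.e).hom.toAlgebra
  have h : (f.appLE c.V c.U c.e).hom.Smooth := HasRingHomProperty.appLE @Smooth f inferInstance ⟨c.V, c.hV⟩ ⟨c.U, c.hU⟩ c.e
  have : Algebra.Smooth Γ(Y, c.V) Γ(X, c.U) := h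
  infer_instance

variable {R : Type u} [CommRing R]

/-- `Spec (R ⧸ I)` over `Spec R` -/
abbrev Z (I : Ideal R) : Over (Spec (CommRingCat.of R)) :=
  Over.mk (Spec.map (CommRingCat.ofHom (Ideal.Quotient.mk I)))

/-- comparison of the closed subschemes -/
def zMap {I I' : Ideal R} (h : I ≤ I') : Z I' ⟶ Z I :=
  Over.homMk (Spec.map (CommRingCat.ofHom (Ideal.Quotient.factor h))) (by
    show Spec.map _ ≫ Spec.map _ = Spec.map _
    rw [← Spec.map_comp, ← CommRingCat.ofHom_comp, Ideal.Quotient.factor_comp_mk])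

theorem hom_Z_subsingleton {I : Ideal R} {Y : Over (Spec (CommRingCat.of R))} (a b : Y ⟶ Z I) : a = b := by
  have : IsClosedImmersion (Spec.map (CommRingCat.ofHom (Ideal.Quotient.mk I))) :=
    IsClosedImmersion.spec_of_surjective _ Ideal.Quotient.mk_surjective
  exact Over.OverMorphism.ext ((cancel_mono (Spec.map (CommRingCat.ofHom (Ideal.Quotient.mk I)))).1
    ((Over.w a).trans (Over.w b).symm))

theorem exists_lift_step {X : Over (Spec (CommRingCat.of R))} [Smooth X.hom] {I I' : Ideal R} (h : I ≤ I')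
    (h2 : I' * I' ≤ I) (a : Z I' ⟶ X) : ∃ b : Z I ⟶ X, zMap h ≫ b = a := by
  let K : Ideal (R ⧸ I) := I'.map (Ideal.Quotient.mk I)
  have hK : K ^ 2 = ⊥ := by
    rw [pow_two, ← Ideal.map_mul, Ideal.map_eq_bot_iff_le_ker, Ideal.mk_ker]
    exact h2
  have hker : ∀ x ∈ K, Ideal.Quotient.factor h x = 0 := by
    intro x hx
    obtain ⟨y, hy, rfl⟩ := (Ideal.mem_map_iff_of_surjective _ Ideal.Quotient.mk_surjective).1 hx
    rw [Ideal.Quotient.factor_mk, Ideal.Quotient.eq_zero_iff_mem]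
    exact hy
  let ψ : (R ⧸ I) ⧸ K →+* R ⧸ I' := Ideal.Quotient.lift K (Ideal.Quotient.factor h) hker
  let φ : R ⧸ I' →+* (R ⧸ I) ⧸ K := Ideal.Quotient.lift I' ((Ideal.Quotient.mk K).comp (Ideal.Quotient.mk I))
    fun r hr => Ideal.Quotient.eq_zero_iff_mem.2 (Ideal.mem_map_of_mem _ hr)
  obtain ⟨l, hl1, hl2⟩ := isFormallySmoothHom_of_smooth X.hom (R ⧸ I) K hK
    (Spec.map (CommRingCat.ofHom φ) ≫ a.left) (Z I).hom (by
      rw [Category.assoc, Over.w a]
      show Spec.map _ ≫ Spec.map _ = Spec.map _ ≫ Spec.map _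
      rw [← Spec.map_comp, ← Spec.map_comp]
      rfl)
  refine ⟨Over.homMk l hl2, Over.OverMorphism.ext ?_⟩
  show Spec.map _ ≫ l = _
  have e1 : Spec.map (CommRingCat.ofHom (Ideal.Quotient.factor h)) =
      Spec.map (CommRingCat.ofHom ψ) ≫ Spec.map (CommRingCat.ofHom (Ideal.Quotient.mk K)) := by
    rw [← Spec.map_comp, ← CommRingCat.ofHom_comp, Ideal.Quotient.lift_comp_mk]
  rw [e1, Category.assoc, hl1, ← Spec.map_comp_assoc, ← CommRingCat.ofHom_comp,
    show ψ.comp φ = RingHom.id _ from Ideal.Quotient.ringHom_ext (RingHom.ext fun r => rfl),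
    CommRingCat.ofHom_id, Spec.map_id, Category.id_comp]

theorem exists_lift_pow {X : Over (Spec (CommRingCat.of R))} [Smooth X.hom] (J : Ideal R) (k : ℕ) :
    ∀ a : Z J ⟶ X, ∃ b : Z (J ^ (k + 1)) ⟶ X, zMap (Ideal.pow_le_self k.succ_ne_zero) ≫ b = a := by
  induction k with
  | zero =>
    intro a
    refine ⟨zMap (by rw [pow_one]) ≫ a, ?_⟩
    rw [← Category.assoc, hom_Z_subsingleton (_ ≫ _) (𝟙 _), Category.id_comp]
  | succ k ih =>
    intro a
    obtain ⟨b, hb⟩ := ih a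
    obtain ⟨c, hc⟩ := exists_lift_step (X := X) (Ideal.pow_le_pow_right (I := J) (Nat.le_succ (k + 1)))
      (by rw [← pow_add]; exact Ideal.pow_le_pow_right (by omega)) b
    refine ⟨c, ?_⟩
    rw [← hb, ← hc, ← Category.assoc]
    congr 1
    exact hom_Z_subsingleton _ _

theorem exists_lift_point {X : Over (Spec (CommRingCat.of R))} [Smooth X.hom] {J : Ideal R} (hJ : IsNilpotent J)
    (a : Z J ⟶ X) : ∃ b : 𝟙_ (Over (Spec (CommRingCat.of R))) ⟶ X, toUnit (Z J) ≫ b = a := by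
  obtain ⟨N, hN⟩ := hJ
  obtain ⟨b, hb⟩ := exists_lift_pow J N a
  have h0 : J ^ (N + 1) = ⊥ := by rw [pow_succ, hN, Ideal.zero_eq_bot, Ideal.bot_mul]
  let inv : R ⧸ J ^ (N + 1) →+* R := Ideal.Quotient.lift _ (RingHom.id R) fun r hr => by
    rw [h0, Ideal.mem_bot] at hr; exact hr
  let c : 𝟙_ (Over (Spec (CommRingCat.of R))) ⟶ Z (J ^ (N + 1)) := Over.homMk (Spec.map (CommRingCat.ofHom inv)) (by
    show Spec.map _ ≫ Spec.map _ = 𝟙 _
    rw [← Spec.map_comp, ← CommRingCat.ofHom_comp, Ideal.Quotient.lift_comp_mk, CommRingCat.ofHom_id, Spec.map_id])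
  refine ⟨c ≫ b, ?_⟩
  rw [← hb, ← Category.assoc]
  congr 1
  exact hom_Z_subsingleton _ _

variable {H G : Over (Spec (CommRingCat.of R))} [GrpObj H] [GrpObj G]

/-- conjugation of a homomorphism by a section -/
def intBy (g : 𝟙_ (Over (Spec (CommRingCat.of R))) ⟶ G) (u : H ⟶ G) : H ⟶ G :=
  (toUnit H ≫ g) * u * (toUnit H ≫ g)⁻¹

theorem comp_intBy (g : 𝟙_ (Over (Spec (CommRingCat.of R))) ⟶ G) (u : H ⟶ G) {Y : Over (Spec (CommRingCat.of R))}
    (h : Y ⟶ H) : h ≫ intBy g u = (toUnit Y ≫ g) * (h ≫ u) * (toUnit Y ≫ g)⁻¹ := by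
  rw [intBy, MonObj.comp_mul, MonObj.comp_mul, GrpObj.comp_inv, ← Category.assoc, toUnit_unique (h ≫ toUnit H) (toUnit Y)]

instance isMonHom_intBy (g : 𝟙_ (Over (Spec (CommRingCat.of R))) ⟶ G) (u : H ⟶ G) [IsMonHom u] :
    IsMonHom (intBy g u) where
  one_hom := by
    rw [comp_intBy, IsMonHom.one_hom]
    have h1 : (η[G] : 𝟙_ (Over (Spec (CommRingCat.of R))) ⟶ G) = 1 := by
      rw [Hom.one_def, toUnit_unique (toUnit _) (𝟙 _), Category.id_comp]
    rw [h1, _root_.mul_one, mul_inv_cancel]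
  mul_hom := by
    rw [comp_intBy, MonObj.mul_eq_mul, MonObj.mul_eq_mul, MonObj.mul_comp, MonObj.comp_mul, tensorHom_fst,
      tensorHom_snd, comp_intBy, comp_intBy]
    group

variable (hH : TwC.Locally (Spec (CommRingCat.of R)) TwC.Topology.fpqc (fun S' f =>
    ∃ (M : Type) (_ : AddCommGroup M), Nonempty (Grp.mk (Red.bc f H) ≅ Grp.mk (Red.DS S' M))))

/-- agreement over `Spec (R ⧸ I)` -/
def AgreeMod (I : Ideal R) (u v : H ⟶ G) : Prop :=
  ∀ (Y : Over (Spec (CommRingCat.of R))) (_ : Y ⟶ Z I) (h : Y ⟶ H), h ≫ u = h ≫ v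

include hH in
/-- one step -/
theorem exists_conj_step {I I' : Ideal R} (hle : I ≤ I') (h2 : I' * I' ≤ I) (u v : H ⟶ G) [IsMonHom u] [IsMonHom v]
    (hA : AgreeMod I' u v) :
    ∃ g : Z I ⟶ G, zMap hle ≫ g = 1 ∧
      ∀ (Y : Over (Spec (CommRingCat.of R))) (p : Y ⟶ Z I) (h : Y ⟶ H),
        h ≫ v = (p ≫ g) * (h ≫ u) * (p ≫ g)⁻¹ := by
  let K : Ideal (R ⧸ I) := I'.map (Ideal.Quotient.mk I)
  have hK : K * K = ⊥ := by
    rw [← Ideal.map_mul, Ideal.map_eq_bot_iff_le_ker, Ideal.mk_ker]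
    exact h2
  let φ : R ⧸ I' →+* (R ⧸ I) ⧸ K := Ideal.Quotient.lift I' ((Ideal.Quotient.mk K).comp (Ideal.Quotient.mk I))
    fun r hr => Ideal.Quotient.eq_zero_iff_mem.2 (Ideal.mem_map_of_mem _ hr)
  have hφ : Spec.map (CommRingCat.ofHom φ) ≫ Spec.map (CommRingCat.ofHom (Ideal.Quotient.mk I')) =
      Spec.map (CommRingCat.ofHom (Ideal.Quotient.mk K)) ≫ (Z I).hom := by
    show _ = _ ≫ Spec.map _
    rw [← Spec.map_comp, ← Spec.map_comp]
    rfl
  obtain ⟨g, h1, h3⟩ := exists_conj (j := (Z I).hom) (u := u) (v := v) hK hH (fun Y q h =>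
    hA Y (Over.homMk (q.left ≫ Spec.map (CommRingCat.ofHom φ)) (by
      rw [Category.assoc]
      exact (congrArg (q.left ≫ ·) hφ).trans (Over.w q))) h)
  have hker : ∀ x ∈ K, Ideal.Quotient.factor hle x = 0 := by
    intro x hx
    obtain ⟨y, hy, rfl⟩ := (Ideal.mem_map_iff_of_surjective _ Ideal.Quotient.mk_surjective).1 hx
    rw [Ideal.Quotient.factor_mk, Ideal.Quotient.eq_zero_iff_mem]
    exact hy
  let ψ : (R ⧸ I) ⧸ K →+* R ⧸ I' := Ideal.Quotient.lift K (Ideal.Quotient.factor hle) hker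
  refine ⟨g, ?_, h3⟩
  refine h1 _ (Over.homMk (Spec.map (CommRingCat.ofHom ψ)) ?_) (zMap hle) ?_
  · show Spec.map _ ≫ Spec.map _ ≫ Spec.map _ = Spec.map _
    rw [← Spec.map_comp, ← Spec.map_comp]
    rfl
  · show Spec.map _ = Spec.map _ ≫ Spec.map _
    rw [← Spec.map_comp]
    rfl

include hH in
/-- homomorphisms into a smooth group agreeing modulo a nilpotent ideal are conjugate -/
theorem exists_conj_nilpotent [Smooth G.hom] {J : Ideal R} (hJ : IsNilpotent J) (u v : H ⟶ G) [IsMonHom u]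
    [IsMonHom v] (hA : AgreeMod J u v) :
    ∃ g : 𝟙_ (Over (Spec (CommRingCat.of R))) ⟶ G, toUnit (Z J) ≫ g = 1 ∧
      ∀ (X : Over (Spec (CommRingCat.of R))) (h : X ⟶ H),
        h ≫ v = (toUnit X ≫ g) * (h ≫ u) * (toUnit X ≫ g)⁻¹ := by
  obtain ⟨N, hN⟩ := hJ
  have key : ∀ k : ℕ, ∃ g : 𝟙_ (Over (Spec (CommRingCat.of R))) ⟶ G, toUnit (Z J) ≫ g = 1 ∧
      AgreeMod (J ^ (k + 1)) (intBy g u) v := by
    intro k
    induction k with
    | zero =>
      refine ⟨1, MonObj.comp_one _, ?_⟩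
      intro Y q h
      rw [comp_intBy, MonObj.comp_one, _root_.one_mul, inv_one, _root_.mul_one]
      exact hA Y (q ≫ zMap (by rw [pow_one])) h
    | succ k ih =>
      obtain ⟨g, hg, hag⟩ := ih
      obtain ⟨g', hg', hag'⟩ := exists_conj_step hH (Ideal.pow_le_pow_right (I := J) (Nat.le_succ (k + 1)))
        (by rw [← pow_add]; exact Ideal.pow_le_pow_right (by omega)) (intBy g u) v hag
      obtain ⟨gl, hgl⟩ := exists_lift_point (J := J ^ (k + 2))
        (⟨N, by rw [← pow_mul, mul_comm, pow_mul, hN, Ideal.zero_eq_bot, ← Ideal.zero_eq_bot]; exact zero_pow (by omega)⟩) g'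
      refine ⟨gl * g, ?_, ?_⟩
      · rw [MonObj.comp_mul, hg, _root_.mul_one]
        have e : toUnit (Z J) = zMap (Ideal.pow_le_self (show k + 1 ≠ 0 by omega)) ≫
            zMap (Ideal.pow_le_pow_right (I := J) (Nat.le_succ (k + 1))) ≫ toUnit (Z (J ^ (k + 2))) :=
          toUnit_unique _ _
        rw [e, Category.assoc, Category.assoc, hgl, hg', MonObj.comp_one]
      · intro Y q h
        rw [comp_intBy, hag' Y q h, comp_intBy, MonObj.comp_mul, ← hgl, ← Category.assoc,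
          toUnit_unique (q ≫ toUnit _) (toUnit Y)]
        group
  obtain ⟨g, hg, hag⟩ := key N
  refine ⟨g, hg, fun X h => ?_⟩
  have h0 : J ^ (N + 1) = ⊥ := by rw [pow_succ, hN, Ideal.zero_eq_bot, Ideal.bot_mul]
  let inv : R ⧸ J ^ (N + 1) →+* R := Ideal.Quotient.lift _ (RingHom.id R) fun r hr => by
    rw [h0, Ideal.mem_bot] at hr; exact hr
  let c : 𝟙_ (Over (Spec (CommRingCat.of R))) ⟶ Z (J ^ (N + 1)) := Over.homMk (Spec.map (CommRingCat.ofHom inv)) (by
    show Spec.map _ ≫ Spec.map _ = 𝟙 _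
    rw [← Spec.map_comp, ← CommRingCat.ofHom_comp, Ideal.Quotient.lift_comp_mk, CommRingCat.ofHom_id, Spec.map_id])
  rw [← hag X (toUnit X ≫ c) h, comp_intBy]

end Groth.L25.Cocycle
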