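import Groth.Agent.L25.Cocycle.PointHom
import Groth.Agent.L25.Cocycle.Glue
import Groth.Agent.L25.Cocycle.NilConj

/-!
# Lifting homomorphisms between groups of multiplicative type along a nilpotent ideal
-/

set_option autoImplicit false
universe u

open CategoryTheory CategoryTheory.Limits MonoidalCategory CartesianMonoidalCategory MonObj GrpObj
open AlgebraicGeometry

set_option backward.isDefEq.respectTransparency.types false

noncomputable section

namespace Groth.L25.Cocycle

variable {S : Scheme.{u}} {R : Type u} [CommRing R] {j : Spec (CommRingCat.of R) ⟶ S} {H H' : Over S}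
  [GrpObj H] [GrpObj H'] {J : Ideal R}

section Restrict

variable {R' : Type u} [CommRing R'] (θ : R →+* R') {j' : Spec (CommRingCat.of R') ⟶ S}
  (hj : Spec.map (CommRingCat.ofHom θ) ≫ j = j')

/-- comparison in the other direction -/
def adR' (C : Type u) [CommRing C] [Algebra R' C] [Algebra R C] (hc : algebraMap R C = (algebraMap R' C).comp θ) :
    X j C ⟶ X j' C :=
  Over.homMk (𝟙 _) (by
    show 𝟙 _ ≫ Spec.map _ ≫ j' = Spec.map _ ≫ j
    rw [Category.id_comp, hc, CommRingCat.ofHom_comp, Spec.map_comp, Category.assoc, hj])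

theorem adR'_mor {C D : Type u} [CommRing C] [CommRing D] [Algebra R' C] [Algebra R' D] [Algebra R C]
    [Algebra R D] (hc : algebraMap R C = (algebraMap R' C).comp θ)
    (hd : algebraMap R D = (algebraMap R' D).comp θ) (h : C →ₐ[R'] D) (h₀ : C →ₐ[R] D)
    (hh : h₀.toRingHom = h.toRingHom) :
    mor j h₀ ≫ adR' θ hj C hc = adR' θ hj D hd ≫ mor j' h := by
  apply Over.OverMorphism.ext
  simp only [mor, adR', Over.comp_left, Over.homMk_left, hh, Category.comp_id, Category.id_comp]

theorem adR_adR' (C : Type u) [CommRing C] [Algebra R' C] [Algebra R C] (hc : algebraMap R C = (algebraMap R' C).comp θ) :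
    adR θ hj C hc ≫ adR' θ hj C hc = 𝟙 _ :=
  Over.OverMorphism.ext (Category.id_comp _)

/-- restriction of a point homomorphism -/
def PointHom.restrict (F : PointHom j H H' J) (J' : Ideal R') (hJ' : ∀ C : Type u, ∀ [CommRing C] [Algebra R' C],
    (∀ r ∈ J', algebraMap R' C r = 0) → ∀ r ∈ J, algebraMap R' C (θ r) = 0) : PointHom j' H H' J' where
  f C _ _ hC a := letI := downAlg θ C
    adR θ hj C rfl ≫ F.f C (hJ' C hC) (adR' θ hj C rfl ≫ a)
  mul C _ _ hC a b := by
    letI := downAlg θ C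
    simp only [MonObj.comp_mul]
    rw [F.mul, MonObj.comp_mul]
  nat {C D} _ _ _ _ h hC hD a := by
    letI := downAlg θ C
    letI := downAlg θ D
    let h₀ : C →ₐ[R] D := { h.toRingHom with commutes' := fun r => h.commutes (θ r) }
    rw [← Category.assoc (adR' θ hj D rfl), ← adR'_mor θ hj rfl rfl h h₀ rfl, Category.assoc, F.nat,
      ← Category.assoc, ← adR_mor θ hj rfl rfl h h₀ rfl, Category.assoc]

end Restrict

/-- the value of a point homomorphism, without instances -/
def PointHom.val0 (F : PointHom j H H' J) (C : Type u) [CommRing C] (φ : R →+* C) (hC : ∀ r ∈ J, φ r = 0)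
    (z : Spec (CommRingCat.of C) ⟶ H.left) (hz : z ≫ H.hom = Spec.map (CommRingCat.ofHom φ) ≫ j) :
    Spec (CommRingCat.of C) ⟶ H'.left :=
  letI := φ.toAlgebra
  (F.f C hC (Over.homMk z hz)).left

theorem PointHom.val0_congr (F : PointHom j H H' J) {C : Type u} [CommRing C] {φ φ' : R →+* C} {hC hC'}
    {z z' : Spec (CommRingCat.of C) ⟶ H.left} {hz hz'} (h : φ = φ') (h' : z = z') :
    F.val0 C φ hC z hz = F.val0 C φ' hC' z' hz' := by
  subst h h'; rfl

theorem PointHom.f_left_aux (F : PointHom j H H' J) (C : Type u) [CommRing C] (φ : R →+* C) (hφ : ∀ r ∈ J, φ r = 0)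
    (i : Algebra R C) (hi : i = φ.toAlgebra) (hC) (a : letI := i; X j C ⟶ H) (hz) :
    (letI := i; F.f C hC a).left = F.val0 C φ hφ a.left hz := by
  subst hi; rfl

theorem PointHom.f_left (F : PointHom j H H' J) (C : Type u) [CommRing C] [i : Algebra R C] (hC) (a : X j C ⟶ H) :
    (F.f C hC a).left = F.val0 C (algebraMap R C) hC a.left (Over.w a) :=
  F.f_left_aux C (algebraMap R C) hC i (Algebra.algebra_ext _ _ fun r => rfl) hC a _

theorem PointHom.restrict_left {R' : Type u} [CommRing R'] (θ : R →+* R') {j' : Spec (CommRingCat.of R') ⟶ S}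
    (hj : Spec.map (CommRingCat.ofHom θ) ≫ j = j') (F : PointHom j H H' J) (J' : Ideal R') (hJ')
    (C : Type u) [CommRing C] [Algebra R' C] (hC : ∀ r ∈ J', algebraMap R' C r = 0) (a : X j' C ⟶ H) :
    ((F.restrict θ hj J' hJ').f C hC a).left = F.val0 C ((algebraMap R' C).comp θ) (hJ' C hC) a.left
      ((Over.w a).trans (by
        show Spec.map _ ≫ j' = Spec.map _ ≫ j
        rw [CommRingCat.ofHom_comp, Spec.map_comp, Category.assoc, hj])) := by
  letI := downAlg θ C
  show 𝟙 _ ≫ (F.f C (hJ' C hC) (adR' θ hj C rfl ≫ a)).left = _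
  rw [Category.id_comp, PointHom.f_left]
  exact F.val0_congr rfl (Category.id_comp a.left)

attribute [irreducible] PointHom.val0

/-- the point homomorphism of a homomorphism -/
def PointHom.ofHom (φ : H ⟶ H') [IsMonHom φ] (J : Ideal R) : PointHom j H H' J where
  f _ _ _ _ a := a ≫ φ
  mul _ _ _ _ a b := MonObj.mul_comp _ _ _
  nat h _ _ a := Category.assoc _ _ _

/-- a family of pairs of charts -/
structure Pair (j : Spec (CommRingCat.of R) ⟶ S) (H H' : Over S) [GrpObj H] [GrpObj H'] where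
  idx : Type u
  fin : Finite idx
  C : idx → Type u
  ring : ∀ i, CommRing (C i)
  θ : ∀ i, R →+* C i
  M : idx → Type
  N : idx → Type
  grpM : ∀ i, CommGroup (M i)
  grpN : ∀ i, CommGroup (N i)
  chart : ∀ i, Chart (Spec.map (CommRingCat.ofHom (θ i)) ≫ j) H (M i)
  chart' : ∀ i, Chart (Spec.map (CommRingCat.ofHom (θ i)) ≫ j) H' (N i)
  flat : ∀ i, Flat (Spec.map (CommRingCat.ofHom (θ i)))
  surj : ∀ x : Spec (CommRingCat.of R), ∃ i, x ∈ Set.range (Spec.map (CommRingCat.ofHom (θ i)))

attribute [instance] Pair.fin Pair.ring Pair.grpM Pair.grpN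

theorem exists_pair (hH : TwC.Locally S TwC.Topology.fpqc (fun S' f => ∃ (M : Type) (_ : AddCommGroup M),
      Nonempty (Grp.mk (Red.bc f H) ≅ Grp.mk (Red.DS S' M))))
    (hH' : TwC.Locally S TwC.Topology.fpqc (fun S' f => ∃ (M : Type) (_ : AddCommGroup M),
      Nonempty (Grp.mk (Red.bc f H') ≅ Grp.mk (Red.DS S' M)))) : Nonempty (Pair j H H') := by
  obtain ⟨F⟩ := exists_family (j := j) hH
  let F' := fun i => (exists_family (j := Spec.map (CommRingCat.ofHom (F.θ i)) ≫ j) hH').some
  have hj : ∀ (x : Σ i, (F' i).idx),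
      Spec.map (CommRingCat.ofHom ((F' x.1).θ x.2)) ≫ Spec.map (CommRingCat.ofHom (F.θ x.1)) ≫ j =
        Spec.map (CommRingCat.ofHom (((F' x.1).θ x.2).comp (F.θ x.1))) ≫ j := fun x => by
    rw [← Spec.map_comp_assoc]; rfl
  refine ⟨{
    idx := Σ i, (F' i).idx
    fin := inferInstance
    C := fun x => (F' x.1).C x.2
    ring := fun x => inferInstance
    θ := fun x => ((F' x.1).θ x.2).comp (F.θ x.1)
    M := fun x => F.M x.1
    N := fun x => (F' x.1).M x.2
    grpM := fun x => inferInstance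
    grpN := fun x => inferInstance
    chart := fun x => (F.chart x.1).restrict ((F' x.1).θ x.2) (hj x)
    chart' := fun x => ((F' x.1).chart x.2).restrict (RingHom.id _)
      (by rw [CommRingCat.ofHom_id, Spec.map_id, Category.id_comp]; exact hj x)
    flat := fun x => by
      rw [CommRingCat.ofHom_comp, Spec.map_comp]
      have := F.flat x.1
      have := (F' x.1).flat x.2
      infer_instance
    surj := fun x => ?_ }⟩
  obtain ⟨i, y, rfl⟩ := F.surj x
  obtain ⟨k, z, rfl⟩ := (F' i).surj y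
  refine ⟨⟨i, k⟩, z, ?_⟩
  rw [CommRingCat.ofHom_comp, Spec.map_comp, Scheme.Hom.comp_apply]

section Over

variable {H H' : Over (Spec (CommRingCat.of R))} [GrpObj H] [GrpObj H']

/-- a point on affine pieces as a point -/
def pieceMor {idx : Type u} {C : idx → Type u} [∀ i, CommRing (C i)] {θ : ∀ i, R →+* C i}
    {Y : Over (Spec (CommRingCat.of R))} {i : idx} {B : Type u} [CommRing B]
    (x : Glue.Pts θ Y.hom i B) :
    letI := x.1.1.toAlgebra
    X (Spec.map (CommRingCat.ofHom (θ i)) ≫ 𝟙 _) B ⟶ Y :=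
  letI := x.1.1.toAlgebra
  Over.homMk x.1.2 (by
    show x.1.2 ≫ Y.hom = Spec.map (CommRingCat.ofHom x.1.1) ≫ Spec.map _ ≫ 𝟙 _
    rw [Category.comp_id]
    exact x.2)

theorem hom_ext_of_pair (P : Pair (𝟙 (Spec (CommRingCat.of R))) H H') {Y G : Over (Spec (CommRingCat.of R))}
    (a b : Y ⟶ G) (h : ∀ (i : P.idx) (B : Type u) [CommRing B] [Algebra (P.C i) B]
      (ζ : X (Spec.map (CommRingCat.ofHom (P.θ i)) ≫ 𝟙 _) B ⟶ Y), ζ ≫ a = ζ ≫ b) : a = b := by
  refine Over.OverMorphism.ext (Glue.ext_pts (θ := P.θ) (p := Y.hom) P.flat P.surj _ _ fun i B _ x => ?_)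
  letI := x.1.1.toAlgebra
  exact congrArg (fun m => m.left) (h i B (pieceMor x))

variable (hH : TwC.Locally (Spec (CommRingCat.of R)) TwC.Topology.fpqc (fun S' f => ∃ (M : Type) (_ : AddCommGroup M),
      Nonempty (Grp.mk (Red.bc f H) ≅ Grp.mk (Red.DS S' M))))
    (hH' : TwC.Locally (Spec (CommRingCat.of R)) TwC.Topology.fpqc (fun S' f => ∃ (M : Type) (_ : AddCommGroup M),
      Nonempty (Grp.mk (Red.bc f H') ≅ Grp.mk (Red.DS S' M))))

theorem nilpotent_mem_map (hJ : IsNilpotent J) {R' : Type u} [CommRing R'] (θ : R →+* R') :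
    ∀ x ∈ J.map θ, IsNilpotent x := by
  intro x hx
  obtain ⟨n, hn⟩ := hJ
  refine ⟨n, ?_⟩
  have h1 := Ideal.pow_mem_pow hx n
  rwa [← Ideal.map_pow, hn, Ideal.zero_eq_bot, Ideal.map_bot, Ideal.mem_bot] at h1

theorem kill_bot {R' : Type u} [CommRing R'] (C : Type u) [CommRing C] [Algebra R' C] :
    ∀ r ∈ (⊥ : Ideal R'), algebraMap R' C r = 0 := fun r hr => by rw [Ideal.mem_bot.1 hr, map_zero]

include hH hH' in
/-- homomorphisms between groups of multiplicative type agreeing modulo a nilpotent ideal are equal -/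
theorem hom_eq_of_agree (hJ : IsNilpotent J) (φ φ' : H ⟶ H') [IsMonHom φ] [IsMonHom φ']
    (hA : AgreeMod J φ φ') : φ = φ' := by
  obtain ⟨P⟩ := exists_pair (j := 𝟙 (Spec (CommRingCat.of R))) hH hH'
  refine hom_ext_of_pair P _ _ fun i B _ _ ζ => ?_
  refine PointHom.ext_of_nilpotent (P.chart i) (P.chart' i) (nilpotent_mem_map hJ (P.θ i))
    (PointHom.ofHom φ ⊥) (PointHom.ofHom φ' ⊥) (fun C _ _ _ hC a => ?_) B (kill_bot B) ζ
  exact agree_map (u := φ) (v := φ') (fun Y q h => hA Y (Over.homMk q.left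
    ((congrArg (q.left ≫ ·) (Category.comp_id _)).symm.trans (Over.w q))) h) (P.θ i) C hC a

variable {G : Over (Spec (CommRingCat.of R))} [GrpObj G]

include hH hH' in
/-- lifting of a factorisation through a subgroup of multiplicative type -/
theorem exists_hom_lift (hJ : IsNilpotent J) (u : H ⟶ G) [IsMonHom u] (i' : H' ⟶ G) [IsMonHom i'] [Mono i']
    (hfac : ∀ (Y : Over (Spec (CommRingCat.of R))) (_ : Y ⟶ Z J) (h : Y ⟶ H), ∃ h' : Y ⟶ H', h' ≫ i' = h ≫ u) :
    ∃ φ : H ⟶ H', IsMonHom φ ∧ AgreeMod J (φ ≫ i') u := by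
  obtain ⟨P⟩ := exists_pair (j := 𝟙 (Spec (CommRingCat.of R))) hH hH'
  have hf : ∀ (C : Type u) [CommRing C] [Algebra R C], (∀ r ∈ J, algebraMap R C r = 0) →
      ∀ a : X (𝟙 (Spec (CommRingCat.of R))) C ⟶ H, ∃ a', a' ≫ i' = a ≫ u := fun C _ _ hC a =>
    hfac _ (Over.homMk (Spec.map (CommRingCat.ofHom (Ideal.Quotient.lift J (algebraMap R C) hC))) (by
      show Spec.map _ ≫ Spec.map _ = Spec.map _ ≫ 𝟙 _
      rw [Category.comp_id, ← Spec.map_comp, ← CommRingCat.ofHom_comp, Ideal.Quotient.lift_comp_mk])) a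
  let F₀ : PointHom (𝟙 (Spec (CommRingCat.of R))) H H' J :=
    { f := fun C _ _ hC a => (hf C hC a).choose
      mul := fun C _ _ hC a b => (cancel_mono i').1 (by
        rw [(hf C hC _).choose_spec, MonObj.mul_comp, MonObj.mul_comp, (hf C hC a).choose_spec, (hf C hC b).choose_spec])
      nat := fun {C D} _ _ _ _ h hC hD a => (cancel_mono i').1 (by
        rw [(hf D hD _).choose_spec, Category.assoc, Category.assoc, (hf C hC a).choose_spec]) }
  have hF₀ : ∀ (C : Type u) [CommRing C] [Algebra R C] (hC) (a), F₀.f C hC a ≫ i' = a ≫ u :=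
    fun C _ _ hC a => (hf C hC a).choose_spec
  let F₁ := fun i => F₀.restrict (P.θ i)
    (j' := Spec.map (CommRingCat.ofHom (P.θ i)) ≫ 𝟙 _) rfl (J.map (P.θ i))
    (fun C _ _ hC r hr => hC _ (Ideal.mem_map_of_mem _ hr))
  choose G₁ hG₁ using fun i => PointHom.exists_lift (P.chart i) (P.chart' i) (nilpotent_mem_map hJ (P.θ i)) (F₁ i)
  let V : Glue.Values P.θ H.hom H'.left :=
    { val := fun i B _ x => letI := x.1.1.toAlgebra; ((G₁ i).f B (kill_bot B) (pieceMor x)).left
      nat := fun i {B B'} _ _ b x => by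
        letI := x.1.1.toAlgebra
        letI := (b.comp x.1.1).toAlgebra
        let h : B →ₐ[P.C i] B' := { b with commutes' := fun r => rfl }
        have h1 := (G₁ i).nat h (kill_bot B) (kill_bot B') (pieceMor x)
        exact (congrArg (fun m => m.left) h1).symm
      compat := fun i k B _ x y hxy => by
        let θB := x.1.1.comp (P.θ i)
        have e1 : θB = y.1.1.comp (P.θ k) := by
          have h1 := x.2
          rw [hxy, y.2, ← Spec.map_comp, ← Spec.map_comp] at h1
          exact congrArg (fun m => m.hom) (Spec.map_injective h1).symm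
        let jB := Spec.map (CommRingCat.ofHom θB) ≫ 𝟙 (Spec (CommRingCat.of R))
        have hi : Spec.map (CommRingCat.ofHom x.1.1) ≫ Spec.map (CommRingCat.ofHom (P.θ i)) ≫ 𝟙 _ = jB := by
          rw [← Spec.map_comp_assoc]; rfl
        have hk : Spec.map (CommRingCat.ofHom y.1.1) ≫ Spec.map (CommRingCat.ofHom (P.θ k)) ≫ 𝟙 _ = jB := by
          rw [← Spec.map_comp_assoc, ← CommRingCat.ofHom_comp, ← e1]
        let Gi := (G₁ i).restrict x.1.1 hi ⊥ (fun C _ _ _ r hr => by rw [Ideal.mem_bot.1 hr, map_zero, map_zero])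
        let Gk := (G₁ k).restrict y.1.1 hk ⊥ (fun C _ _ _ r hr => by rw [Ideal.mem_bot.1 hr, map_zero, map_zero])
        let pt₀ : X jB B ⟶ H := Over.homMk x.1.2 (by
          show x.1.2 ≫ H.hom = Spec.map (CommRingCat.ofHom (RingHom.id B)) ≫ Spec.map _ ≫ 𝟙 _
          rw [CommRingCat.ofHom_id, Spec.map_id, Category.id_comp, Category.comp_id]
          exact x.2.trans (Spec.map_comp _ _).symm)
        have key := PointHom.ext_of_nilpotent ((P.chart i).restrict x.1.1 hi) ((P.chart' i).restrict x.1.1 hi)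
          (nilpotent_mem_map hJ θB) Gi Gk (fun C _ _ hC hCJ a => ?_) B (kill_bot B) pt₀
        · have h2 := congrArg (fun m => m.left) key
          simp only [Gi, Gk, PointHom.restrict_left] at h2
          letI := x.1.1.toAlgebra
          refine ((G₁ i).f_left B _ _).trans ?_
          refine Eq.trans ?_ (h2.trans ?_)
          · refine (G₁ i).val0_congr ?_ ?_
            · simp only [RingHom.algebraMap_toAlgebra, Algebra.algebraMap_self, RingHom.id_comp]
            · simp only [pieceMor, pt₀, Over.homMk_left]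
          letI := y.1.1.toAlgebra
          refine Eq.trans ?_ ((G₁ k).f_left B _ _).symm
          refine (G₁ k).val0_congr ?_ ?_
          · simp only [RingHom.algebraMap_toAlgebra, Algebra.algebraMap_self, RingHom.id_comp]
          · simp only [pieceMor, pt₀, Over.homMk_left]
            exact hxy
        · apply Over.OverMorphism.ext
          simp only [Gi, Gk, PointHom.restrict_left]
          have hk1 : ∀ r ∈ J, ((algebraMap B C).comp x.1.1) (P.θ i r) = 0 := fun r hr =>
            hCJ _ (Ideal.mem_map_of_mem θB hr)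
          have hk2 : ∀ r ∈ J, ((algebraMap B C).comp y.1.1) (P.θ k r) = 0 := fun r hr => by
            have := hCJ _ (Ideal.mem_map_of_mem θB hr)
            rw [e1] at this
            exact this
          have side : ∀ (l : P.idx) (α : P.C l →+* C) (hα : ∀ r ∈ J, α (P.θ l r) = 0)
              (hb : ∀ r ∈ (⊥ : Ideal (P.C l)), α r = 0)
              (z : Spec (CommRingCat.of C) ⟶ H.left)
              (hz : z ≫ H.hom = Spec.map (CommRingCat.ofHom α) ≫ Spec.map (CommRingCat.ofHom (P.θ l)) ≫ 𝟙 _)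
              (hz' : z ≫ H.hom = Spec.map (CommRingCat.ofHom (α.comp (P.θ l))) ≫ 𝟙 _),
              (G₁ l).val0 C α hb z hz = F₀.val0 C (α.comp (P.θ l)) hα z hz' := by
            intro l α hα hb z hz hz'
            letI := α.toAlgebra
            have hCl : ∀ r ∈ J.map (P.θ l), algebraMap (P.C l) C r = 0 := by
              intro r hr
              exact (Ideal.map_le_iff_le_comap.2 fun r hr => RingHom.mem_ker.2 (hα r hr) :
                J.map (P.θ l) ≤ RingHom.ker α) hr
            have h3 := congrArg (fun m => m.left) (hG₁ l C hCl hb (Over.homMk z hz))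
            rw [PointHom.f_left, PointHom.restrict_left] at h3
            simp only [RingHom.algebraMap_toAlgebra, Over.homMk_left] at h3
            exact h3
          rw [side i _ hk1, side k _ hk2]
          exact F₀.val0_congr (by rw [RingHom.comp_assoc, RingHom.comp_assoc]; exact congrArg _ e1) rfl
          all_goals first
            | exact kill_bot C
            | exact (Over.w a).trans (by
                show Spec.map _ ≫ Spec.map (CommRingCat.ofHom θB) ≫ 𝟙 _ = _
                simp only [Category.comp_id, ← Spec.map_comp, ← CommRingCat.ofHom_comp, RingHom.comp_assoc]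
                all_goals first | rfl | rw [← e1]) }
  obtain ⟨φ₀, hφ₀⟩ := Glue.exists_desc P.flat P.surj V
  have hw : φ₀ ≫ H'.hom = H.hom := by
    refine Glue.ext_pts (θ := P.θ) (p := H.hom) P.flat P.surj _ _ fun i B _ x => ?_
    letI := x.1.1.toAlgebra
    rw [reassoc_of% (hφ₀ i B x)]
    exact (Over.w ((G₁ i).f B (kill_bot B) (pieceMor x))).trans (Over.w (pieceMor x)).symm
  let φ : H ⟶ H' := Over.homMk φ₀ hw
  have hφ : ∀ (i : P.idx) (B : Type u) [CommRing B] [Algebra (P.C i) B]
      (a : X (Spec.map (CommRingCat.ofHom (P.θ i)) ≫ 𝟙 _) B ⟶ H), a ≫ φ = (G₁ i).f B (kill_bot B) a := by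
    intro i B _ inst a
    apply Over.OverMorphism.ext
    let x : Glue.Pts P.θ H.hom i B := ⟨(algebraMap (P.C i) B, a.left), by
      have := Over.w a
      simp only [Over.mk_hom, Category.comp_id] at this
      exact this⟩
    refine (hφ₀ i B x).trans ?_
    show ((letI := x.1.1.toAlgebra; (G₁ i).f B (kill_bot B) (pieceMor x))).left = _
    rw [(G₁ i).f_left B (kill_bot B) a]
    let := x.1.1.toAlgebra
    refine ((G₁ i).f_left B _ _).trans ?_
    exact (G₁ i).val0_congr rfl rfl
  have hmul : ∀ (Y : Over (Spec (CommRingCat.of R))) (a b : Y ⟶ H), (a * b) ≫ φ = (a ≫ φ) * (b ≫ φ) := by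
    intro Y a b
    refine hom_ext_of_pair P _ _ fun i B _ _ ζ => ?_
    rw [MonObj.comp_mul, ← Category.assoc, ← Category.assoc, ← Category.assoc, hφ, hφ, hφ, MonObj.comp_mul,
      (G₁ i).mul]
  have hφm : IsMonHom φ := by
    refine ⟨?_, by rw [MonObj.mul_eq_mul, hmul, MonObj.mul_eq_mul, MonObj.comp_mul, tensorHom_fst, tensorHom_snd]⟩
    have h1 : ∀ (K : Over (Spec (CommRingCat.of R))) [GrpObj K], (η[K] : 𝟙_ (Over (Spec (CommRingCat.of R))) ⟶ K) = 1 :=
      fun K _ => by rw [Hom.one_def, toUnit_unique (toUnit _) (𝟙 _), Category.id_comp]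
    rw [h1 H, h1 H']
    have h2 := hmul _ (1 : 𝟙_ (Over (Spec (CommRingCat.of R))) ⟶ H) 1
    rw [_root_.one_mul] at h2
    exact left_eq_mul.1 h2
  refine ⟨φ, hφm, fun Y q h => hom_ext_of_pair P _ _ fun i B _ _ ζ => ?_⟩
  rw [← Category.assoc ζ h, ← Category.assoc (ζ ≫ h) φ, hφ]
  have hkill : ∀ r ∈ J.map (P.θ i), algebraMap (P.C i) B r = 0 := by
    have e2 : Spec.map (CommRingCat.ofHom ((algebraMap (P.C i) B).comp (P.θ i))) =
        Spec.map (CommRingCat.ofHom (Ideal.Quotient.mk J) ≫ Spec.preimage (ζ.left ≫ q.left)) := by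
      rw [Spec.map_comp, Spec.map_preimage, Category.assoc]
      refine Eq.trans ?_ ((congrArg (ζ.left ≫ ·) (Over.w q)).trans rfl).symm
      refine Eq.trans ?_ (Over.w ζ).symm
      simp [Spec.map_comp]
    have e3 := congrArg (fun m => m.hom) (Spec.map_injective e2)
    intro r hr
    refine (Ideal.map_le_iff_le_comap.2 fun r hr => ?_ : J.map (P.θ i) ≤ RingHom.ker (algebraMap (P.C i) B)) hr
    rw [Ideal.mem_comap, RingHom.mem_ker]
    show ((algebraMap (P.C i) B).comp (P.θ i)) r = 0
    have e4 := RingHom.congr_fun e3 r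
    simp only [CommRingCat.hom_ofHom, CommRingCat.hom_comp, RingHom.comp_apply,
      Ideal.Quotient.eq_zero_iff_mem.2 hr, map_zero] at e4
    exact e4
  rw [hG₁ i B hkill]
  let := downAlg (P.θ i) B
  show (adR _ _ B rfl ≫ _) ≫ i' = _
  rw [Category.assoc, hF₀, ← Category.assoc, ← Category.assoc]
  rw [show adR (P.θ i) (j := 𝟙 (Spec (CommRingCat.of R))) (j' := Spec.map (CommRingCat.ofHom (P.θ i)) ≫ 𝟙 _) rfl B rfl ≫
      adR' (P.θ i) rfl B rfl = 𝟙 _ from adR_adR' _ _ _ _, Category.id_comp, Category.assoc]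

end Over

end Groth.L25.Cocycle
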