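import Groth.Agent.L25.Cocycle.Ring
import Groth.Agent.L20.Pinch.Affine
import Groth.Agent.L25.MonoFibres

/-!
# Averaging a cocycle of a diagonalisable group: the local statement
-/

set_option autoImplicit false
universe u

open CategoryTheory CategoryTheory.Limits MonoidalCategory CartesianMonoidalCategory MonObj GrpObj
open AlgebraicGeometry

set_option backward.isDefEq.respectTransparency.types false

noncomputable section

namespace Groth.L25.Cocycle

variable {S : Scheme.{u}} {R : Type u} [CommRing R] (j : Spec (CommRingCat.of R) ⟶ S)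

/-- `Spec C` over `S` -/
abbrev X (C : Type u) [CommRing C] [Algebra R C] : Over S :=
  Over.mk (Spec.map (CommRingCat.ofHom (algebraMap R C)) ≫ j)

variable {C D E : Type u} [CommRing C] [Algebra R C] [CommRing D] [Algebra R D] [CommRing E] [Algebra R E]

/-- the morphism of an algebra map -/
def mor (h : C →ₐ[R] D) : X j D ⟶ X j C :=
  Over.homMk (Spec.map (CommRingCat.ofHom h.toRingHom)) (by
    simp only [Over.mk_hom]
    rw [← Spec.map_comp_assoc, ← CommRingCat.ofHom_comp, AlgHom.toRingHom_eq_coe, AlgHom.comp_algebraMap])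

theorem mor_id : mor j (AlgHom.id R C) = 𝟙 (X j C) :=
  Over.OverMorphism.ext (Spec.map_id _)

theorem mor_comp (h : C →ₐ[R] D) (h' : D →ₐ[R] E) : mor j (h'.comp h) = mor j h' ≫ mor j h := by
  apply Over.OverMorphism.ext
  show Spec.map _ = Spec.map _ ≫ Spec.map _
  rw [← Spec.map_comp]
  rfl

variable {H G : Over S} [GrpObj H] [GrpObj G]

variable (H) in
/-- a description of the points of `H` over `j` by characters of `M` -/
structure Chart (M : Type) [CommGroup M] where
  pt : ∀ {C : Type u} [CommRing C] [Algebra R C], (M →* C) → (X j C ⟶ H)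
  pt_mul : ∀ {C : Type u} [CommRing C] [Algebra R C] (χ ψ : M →* C), pt (χ * ψ) = pt χ * pt ψ
  bij : ∀ (C : Type u) [CommRing C] [Algebra R C], Function.Bijective (pt : (M →* C) → (X j C ⟶ H))
  nat : ∀ {C D : Type u} [CommRing C] [Algebra R C] [CommRing D] [Algebra R D] (h : C →ₐ[R] D)
    (χ : M →* C), mor j h ≫ pt χ = pt ((h : C →* D).comp χ)

variable {j} {M N : Type} [CommGroup M] [CommGroup N]

theorem twist_comp_of (h : C →ₐ[R] D) (χ : M →* MonoidAlgebra D N) :
    ((twist h χ : MonoidAlgebra C M →ₐ[R] MonoidAlgebra D N) : MonoidAlgebra C M →* MonoidAlgebra D N).comp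
      (MonoidAlgebra.of C M) = χ := by
  refine MonoidHom.ext fun m => ?_
  show twist h χ (MonoidAlgebra.of C M m) = χ m
  rw [MonoidAlgebra.of_apply, twist_single, map_one, map_one, _root_.one_mul]

theorem coeff_pair {P : Type} [CommGroup P] (x y : MonoidAlgebra D P) (n k : P) :
    (MonoidAlgebra.mapDomain (MonoidHom.inl P P) x * MonoidAlgebra.mapDomain (MonoidHom.inr P P) y).coeff (n, k) =
      x.coeff n * y.coeff k := by
  classical
  induction x using MonoidAlgebra.induction_linear with
  | zero => simp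
  | add p q hp hq => simp [MonoidAlgebra.mapDomain_add, _root_.add_mul, hp, hq]
  | single a c =>
    induction y using MonoidAlgebra.induction_linear with
    | zero => simp
    | add p q hp hq =>
      simp only [MonoidAlgebra.mapDomain_add, _root_.mul_add, MonoidAlgebra.coeff_add, Finsupp.add_apply, hp, hq]
    | single b d =>
      simp [MonoidAlgebra.mapDomain_single, MonoidAlgebra.single_mul_single, MonoidAlgebra.coeff_single,
        Finsupp.single_apply]
      split_ifs <;> simp_all

section Compat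

variable (e₁ : Chart j H M) (e₂ : Chart j H N)

/-- compatible charts have transition characters without invariant part -/
theorem coeff_one_eq_zero (χ : M →* MonoidAlgebra D N)
    (hc : e₁.pt χ = e₂.pt (MonoidAlgebra.of D N)) (m : M) (hm : m ≠ 1) : (χ m).coeff 1 = 0 := by
  classical
  obtain ⟨ψ, hψ⟩ := (e₂.bij (MonoidAlgebra D M)).2 (e₁.pt (MonoidAlgebra.of D M))
  -- grouplike
  have hf : ∀ (f : N →* N × N),
      e₁.pt (((twist (AlgHom.id R D) ((MonoidAlgebra.of D (N × N)).comp f) : _ →ₐ[R] _) :
        MonoidAlgebra D N →* MonoidAlgebra D (N × N)).comp χ) = e₂.pt ((MonoidAlgebra.of D (N × N)).comp f) := by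
    intro f
    rw [← e₁.nat, hc, e₂.nat, twist_comp_of]
  have hmap : ∀ (f : N →* N × N) (x : MonoidAlgebra D N),
      twist (AlgHom.id R D) ((MonoidAlgebra.of D (N × N)).comp f) x = MonoidAlgebra.mapDomain f x := by
    intro f x
    induction x using MonoidAlgebra.induction_linear with
    | zero => simp
    | add p q hp hq => simp [hp, hq, MonoidAlgebra.mapDomain_add]
    | single a c =>
      simp [twist_single, MonoidAlgebra.coe_algebraMap, MonoidAlgebra.single_mul_single,
        MonoidAlgebra.mapDomain_single]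
  have hdiag : (MonoidAlgebra.of D (N × N)).comp (MonoidHom.inl N N) *
      (MonoidAlgebra.of D (N × N)).comp (MonoidHom.inr N N) =
      (MonoidAlgebra.of D (N × N)).comp ((MonoidHom.id N).prod (MonoidHom.id N)) := by
    refine MonoidHom.ext fun x => ?_
    rw [MonoidHom.mul_apply]
    simp [MonoidAlgebra.single_mul_single]
  have h1 := hf ((MonoidHom.id N).prod (MonoidHom.id N))
  rw [← hdiag, e₂.pt_mul, ← hf, ← hf, ← e₁.pt_mul] at h1
  have h2 := congrArg (fun z => z m) ((e₁.bij _).1 h1)
  simp only [MonoidHom.mul_apply, MonoidHom.comp_apply, AlgHom.coe_toMonoidHom, MonoidHom.coe_coe, hmap] at h2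
  have h3 : ∀ k, (χ m).coeff 1 * (χ m).coeff k = if k = 1 then (χ m).coeff 1 else 0 := by
    intro k
    have h4 := congrArg (fun z => MonoidAlgebra.coeff z ((1 : N), k)) h2
    simp only [coeff_pair] at h4
    rw [← h4, hdiag, hmap, MonoidAlgebra.coeff_mapDomain]
    split_ifs with h
    · subst h
      exact Finsupp.mapDomain_apply (fun x y e => (Prod.ext_iff.1 e).1) _ (1 : N)
    · refine Finsupp.mapDomain_notin_range _ _ ?_
      rintro ⟨q, hq⟩
      exact h ((Prod.ext_iff.1 hq).2.symm.trans (Prod.ext_iff.1 hq).1)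
  have h5 : algebraMap D (MonoidAlgebra D N) ((χ m).coeff 1) * χ m =
      algebraMap D (MonoidAlgebra D N) ((χ m).coeff 1) := by
    refine MonoidAlgebra.ext (Finsupp.ext fun k => ?_)
    rw [MonoidAlgebra.coe_algebraMap, Function.comp_apply, coeff_single_one_mul, MonoidAlgebra.coeff_single,
      Finsupp.single_apply]
    simp only [Algebra.algebraMap_self, RingHom.id_apply]
    rw [h3]
    by_cases h : k = 1
    · subst h; simp
    · simp [h, Ne.symm h]
  have hinv : ((twist (AlgHom.id R D) ψ : _ →ₐ[R] _) : MonoidAlgebra D N →* MonoidAlgebra D M).comp χ =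
      MonoidAlgebra.of D M := by
    apply (e₁.bij _).1
    rw [← e₁.nat, hc, e₂.nat, twist_comp_of, hψ]
  have h6 := congrArg (twist (AlgHom.id R D) ψ) h5
  rw [map_mul, twist_algebraMap, show twist (AlgHom.id R D) ψ (χ m) = MonoidAlgebra.of D M m from
    congrArg (fun z => z m) hinv] at h6
  have h7 := congrArg (fun z => MonoidAlgebra.coeff z m) h6
  simpa [MonoidAlgebra.coe_algebraMap, MonoidAlgebra.single_mul_single, MonoidAlgebra.coeff_single,
    Ne.symm hm] using h7

end Compat

variable (u v : H ⟶ G) (J : Ideal R)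

/-- `u` and `v` agree over algebras killed by `J` -/
def Agree (j : Spec (CommRingCat.of R) ⟶ S) : Prop :=
  ∀ (C : Type u) [CommRing C] [Algebra R C], (∀ r ∈ J, algebraMap R C r = 0) →
    ∀ g : X j C ⟶ H, g ≫ u = g ≫ v

variable {u v J} (e : Chart j H M) (hA : Agree u v J j)

variable (u v) in
/-- the universal cocycle -/
def cU (C : Type u) [CommRing C] [Algebra R C] : X j (MonoidAlgebra C M) ⟶ G :=
  (e.pt (MonoidAlgebra.of C M) ≫ v) * (e.pt (MonoidAlgebra.of C M) ≫ u)⁻¹

theorem algebraMap_quot_eq_zero (C : Type u) [CommRing C] [Algebra R C] {r : R} (hr : r ∈ J) :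
    algebraMap R (C ⧸ JC J C) r = 0 :=
  Ideal.Quotient.eq_zero_iff_mem.2 (Ideal.mem_map_of_mem _ hr)

include hA in
theorem exists_cp (C : Type u) [CommRing C] [Algebra R C] :
    ∃ c : X j (sub J C M) ⟶ G, mor j ((sub J C M).val.restrictScalars R) ≫ c = cU u v e C ∧
      mor j ((toQuot J C M).restrictScalars R) ≫ c = 1 := by
  have hker : ∀ r ∈ J, algebraMap R (MonoidAlgebra (C ⧸ JC J C) M) r = 0 := fun r hr => by
    rw [IsScalarTower.algebraMap_apply R (C ⧸ JC J C) (MonoidAlgebra (C ⧸ JC J C) M),
      algebraMap_quot_eq_zero C hr, map_zero]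
  have h1 : mor j ((redC J C M).restrictScalars R) ≫ cU u v e C =
      mor j (IsScalarTower.toAlgHom R (C ⧸ JC J C) (MonoidAlgebra (C ⧸ JC J C) M)) ≫ (1 : X j (C ⧸ JC J C) ⟶ G) := by
    rw [cU, MonObj.comp_mul, GrpObj.comp_inv, ← Category.assoc, ← Category.assoc,
      hA _ hker, mul_inv_cancel, MonObj.comp_one]
  obtain ⟨c, hc1, hc2⟩ := (isFib J C M).exists_desc_hom (Q := G.left) ((1 : X j (C ⧸ JC J C) ⟶ G).left)
    (cU u v e C).left (congrArg (fun m => m.left) h1).symm
  have hw : c ≫ G.hom = (X j (sub J C M)).hom := by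
    refine (isFib J C M).hom_ext_spec _ _ ?_ ?_
    · rw [reassoc_of% hc1]
      exact (Over.w (1 : X j (C ⧸ JC J C) ⟶ G)).trans (Over.w (mor j ((toQuot J C M).restrictScalars R))).symm
    · rw [reassoc_of% hc2]
      exact (Over.w (cU u v e C)).trans (Over.w (mor j ((sub J C M).val.restrictScalars R))).symm
  exact ⟨Over.homMk c hw, Over.OverMorphism.ext hc2, Over.OverMorphism.ext hc1⟩

/-- the universal cocycle on `sub` -/
def cp (C : Type u) [CommRing C] [Algebra R C] : X j (sub J C M) ⟶ G := (exists_cp e hA C).choose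

theorem cp_val (C : Type u) [CommRing C] [Algebra R C] :
    mor j ((sub J C M).val.restrictScalars R) ≫ cp e hA C = cU u v e C := (exists_cp e hA C).choose_spec.1

theorem cp_toQuot (C : Type u) [CommRing C] [Algebra R C] :
    mor j ((toQuot J C M).restrictScalars R) ≫ cp e hA C = 1 := (exists_cp e hA C).choose_spec.2

theorem sub_ext {C : Type u} [CommRing C] [Algebra R C] {a b : X j (sub J C M) ⟶ G}
    (h1 : mor j ((sub J C M).val.restrictScalars R) ≫ a = mor j ((sub J C M).val.restrictScalars R) ≫ b)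
    (h2 : mor j ((toQuot J C M).restrictScalars R) ≫ a = mor j ((toQuot J C M).restrictScalars R) ≫ b) : a = b :=
  Over.OverMorphism.ext ((isFib J C M).hom_ext_spec _ _ (congrArg (fun m => m.left) h2)
    (congrArg (fun m => m.left) h1))

variable (hJ : J * J = ⊥)

/-- the averaged cocycle -/
def avg (C : Type u) [CommRing C] [Algebra R C] : X j C ⟶ G :=
  mor j ((π J C M hJ).restrictScalars R) ≫ cp e hA C

theorem avg_mod (C : Type u) [CommRing C] [Algebra R C] :
    mor j ((Ideal.Quotient.mkₐ C (JC J C)).restrictScalars R) ≫ avg e hA hJ C = 1 := by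
  rw [avg, ← Category.assoc, ← mor_comp]
  rw [show ((Ideal.Quotient.mkₐ C (JC J C)).restrictScalars R).comp ((π J C M hJ).restrictScalars R) =
    (toQuot J C M).restrictScalars R from AlgHom.ext fun x => mk_π hJ x]
  exact cp_toQuot e hA C

theorem mor_quotientMap (h : C →ₐ[R] D) :
    ∃ q : (C ⧸ JC J C) →ₐ[R] (D ⧸ JC J D), ∀ x : sub J C M, ∀ (χ : M →* MonoidAlgebra D N),
      (J * J = ⊥) → q (toQuot J C M x) = toQuot J D N (subMap h χ x) :=
  ⟨{ Ideal.quotientMap (JC J D) h.toRingHom (fun _ hc => map_mem_JC h hc) with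
      commutes' := fun r => by
        show Ideal.quotientMap (JC J D) h.toRingHom _ (algebraMap R (C ⧸ JC J C) r) = _
        rw [IsScalarTower.algebraMap_apply R C (C ⧸ JC J C), Ideal.Quotient.algebraMap_eq, Ideal.quotientMap_mk,
          IsScalarTower.algebraMap_apply R D (D ⧸ JC J D), Ideal.Quotient.algebraMap_eq]
        exact congrArg _ (h.commutes r) },
    fun x χ hJ => (toQuot_subMap h χ hJ x).symm⟩

include hJ in
/-- the cocycle on `sub` is natural -/
theorem cp_subMap (h : C →ₐ[R] D) (χ : M →* MonoidAlgebra D N) :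
    mor j ((sub J D N).val.restrictScalars R) ≫ mor j (subMap h χ) ≫ cp e hA C =
      mor j (twist h χ) ≫ cU u v e C ∧
    mor j ((toQuot J D N).restrictScalars R) ≫ mor j (subMap h χ) ≫ cp e hA C = 1 := by
  constructor
  · rw [← Category.assoc, ← mor_comp, ← cp_val e hA C, ← Category.assoc, ← mor_comp]
    rfl
  · obtain ⟨q, hq⟩ := mor_quotientMap (M := M) (N := N) (J := J) h
    rw [← Category.assoc, ← mor_comp,
      show ((toQuot J D N).restrictScalars R).comp (subMap h χ) = q.comp ((toQuot J C M).restrictScalars R) from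
        AlgHom.ext fun x => (hq x χ hJ).symm,
      mor_comp, Category.assoc, cp_toQuot, MonObj.comp_one]

/-- the average is natural and independent of the chart -/
theorem avg_map (e' : Chart j H N) (h : C →ₐ[R] D) :
    mor j h ≫ avg e hA hJ C = avg e' hA hJ D := by
  obtain ⟨χ, hχ⟩ := (e.bij (MonoidAlgebra D N)).2 (e'.pt (MonoidAlgebra.of D N))
  obtain ⟨h1, h2⟩ := cp_subMap e hA hJ h χ
  have key : mor j (subMap h χ) ≫ cp e hA C = cp e' hA D := by
    refine sub_ext ?_ (h2.trans (cp_toQuot e' hA D).symm)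
    rw [h1, cp_val, cU, cU, MonObj.comp_mul, GrpObj.comp_inv, ← Category.assoc, ← Category.assoc, e.nat,
      twist_comp_of, hχ]
  rw [avg, avg, ← key, ← Category.assoc, ← Category.assoc, ← mor_comp, ← mor_comp]
  congr 2
  exact AlgHom.ext fun x => (π_subMap h χ hJ (coeff_one_eq_zero e e' χ hχ) x).symm

variable [IsMonHom u] [IsMonHom v]

/-- the average trivialises the cocycle -/
theorem avg_spec (C : Type u) [CommRing C] [Algebra R C] (χ : M →* C) :
    e.pt χ ≫ v = avg e hA hJ C * (e.pt χ ≫ u) * (avg e hA hJ C)⁻¹ := by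
  classical
  let D := MonoidAlgebra C M
  let inc : C →ₐ[R] D := IsScalarTower.toAlgHom R C D
  let xi : M →* MonoidAlgebra D M := (algebraMap D (MonoidAlgebra D M)).toMonoidHom.comp (MonoidAlgebra.of C M)
  let et : M →* MonoidAlgebra D M := MonoidAlgebra.of D M
  let Q : X j (sub J D M) ⟶ X j D := mor j ((Algebra.ofId D (sub J D M)).restrictScalars R)
  let U := e.pt (MonoidAlgebra.of C M) ≫ u
  obtain ⟨h1, h2⟩ := cp_subMap e hA hJ inc (xi * et)
  have hxi : mor j ((sub J D M).val.restrictScalars R) ≫ Q ≫ e.pt (MonoidAlgebra.of C M) = e.pt xi := by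
    rw [← Category.assoc, ← mor_comp, e.nat]
    rfl
  have hker : ∀ r ∈ J, algebraMap R (D ⧸ JC J D) r = 0 := fun r hr => algebraMap_quot_eq_zero D hr
  have key : mor j (subMap inc (xi * et)) ≫ cp e hA C = (Q ≫ cU u v e C) * ((Q ≫ U) * cp e hA D * (Q ≫ U)⁻¹) := by
    refine sub_ext ?_ ?_
    · rw [h1]
      simp only [cU, U, MonObj.comp_mul, GrpObj.comp_inv, cp_val, ← Category.assoc _ _ u, ← Category.assoc _ _ v,
        hxi, e.nat, twist_comp_of, e.pt_mul, MonObj.mul_comp, GrpObj.inv_comp]
      group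
      rfl
    · rw [h2]
      simp only [cU, U, MonObj.comp_mul, GrpObj.comp_inv, cp_toQuot, ← Category.assoc _ _ u, ← Category.assoc _ _ v]
      rw [hA _ hker]
      group
  have h3 := congrArg (mor j ((π J D M hJ).restrictScalars R) ≫ ·) key
  have hQ : mor j ((π J D M hJ).restrictScalars R) ≫ Q = 𝟙 _ := by
    rw [← mor_comp, ← mor_id]
    congr 1
    exact AlgHom.ext fun x => (π J D M hJ).commutes x
  have hπ : ((π J D M hJ).restrictScalars R).comp (subMap inc (xi * et)) =
      inc.comp ((π J C M hJ).restrictScalars R) := by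
    refine AlgHom.ext fun x => π_subMap inc (xi * et) hJ (fun m hm => ?_) x
    simp [xi, et, MonoidAlgebra.coe_algebraMap, coeff_single_one_mul, MonoidAlgebra.coeff_single,
      Finsupp.single_apply, hm]
  simp only [MonObj.comp_mul, GrpObj.comp_inv, ← Category.assoc, hQ, Category.id_comp] at h3
  rw [← mor_comp, hπ, mor_comp, Category.assoc, ← avg, ← avg, ← avg_map e hA hJ e inc] at h3
  let ev : D →ₐ[R] C := (MonoidAlgebra.lift C C M χ).restrictScalars R
  have h4 := congrArg (mor j ev ≫ ·) h3
  have hev : mor j ev ≫ mor j inc = 𝟙 _ := by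
    rw [← mor_comp, ← mor_id]
    congr 1
    exact AlgHom.ext fun x => (MonoidAlgebra.lift C C M χ).commutes x
  have hpt : mor j ev ≫ e.pt (MonoidAlgebra.of C M) = e.pt χ := by
    rw [e.nat]
    congr 1
    exact MonoidHom.ext fun m => MonoidAlgebra.lift_of _ m
  simp only [cU, U, MonObj.comp_mul, GrpObj.comp_inv, ← Category.assoc, hev, hpt, Category.id_comp] at h4
  generalize avg e hA hJ C = g at h4 ⊢
  generalize e.pt χ ≫ v = V at h4 ⊢
  generalize e.pt χ ≫ u = U' at h4 ⊢
  have h5 : g = V * g * U'⁻¹ := by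
    refine h4.trans ?_
    group
  calc V = (V * g * U'⁻¹) * U' * g⁻¹ := by group
    _ = g * U' * g⁻¹ := by rw [← h5]

end Groth.L25.Cocycle
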