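import Groth.Agent.L25.Cocycle.Charts
import Groth.Agent.L25.MultTypeBC
import Groth.Prelude.Def_TwC
import Mathlib.AlgebraicGeometry.Sites.Fpqc
import Mathlib.AlgebraicGeometry.Limits

/-!
# Homomorphisms from groups of multiplicative type agreeing modulo a square zero ideal are conjugate
-/

set_option autoImplicit false
universe u

open CategoryTheory CategoryTheory.Limits MonoidalCategory CartesianMonoidalCategory MonObj GrpObj
open AlgebraicGeometry

set_option backward.isDefEq.respectTransparency.types false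

noncomputable section

namespace Groth.L25.Cocycle

variable {S : Scheme.{u}} {R : Type u} [CommRing R] {j : Spec (CommRingCat.of R) ⟶ S} {H G : Over S}
  [GrpObj H] [GrpObj G]

variable (j) in
/-- a finite faithfully flat family of charts -/
structure Family (H : Over S) [GrpObj H] where
  idx : Type u
  fin : Finite idx
  C : idx → Type u
  ring : ∀ i, CommRing (C i)
  θ : ∀ i, R →+* C i
  M : idx → Type
  grp : ∀ i, CommGroup (M i)
  chart : ∀ i, Chart (Spec.map (CommRingCat.ofHom (θ i)) ≫ j) H (M i)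
  flat : ∀ i, Flat (Spec.map (CommRingCat.ofHom (θ i)))
  surj : ∀ x : Spec (CommRingCat.of R), ∃ i, x ∈ Set.range (Spec.map (CommRingCat.ofHom (θ i)))

attribute [instance] Family.fin Family.ring Family.grp

theorem exists_family (hH : TwC.Locally S TwC.Topology.fpqc (fun S' f => ∃ (M : Type) (_ : AddCommGroup M),
      Nonempty (Grp.mk (Red.bc f H) ≅ Grp.mk (Red.DS S' M)))) : Nonempty (Family j H) := by
  obtain ⟨S', f, hflat, hsurj, hqc, hloc⟩ := hH
  obtain ⟨W, hW, hWimg⟩ := MultTypeBC.exists_compact_image f hqc j ⊤ (isAffineOpen_top _)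
  let P : Scheme.{u} := pullback j f
  choose U hU M inst e using hloc
  have key : ∀ z : P, ∃ D : P.Opens, IsAffineOpen D ∧ z ∈ D ∧ D ≤ pullback.snd j f ⁻¹ᵁ U (pullback.snd j f z) := by
    intro z
    obtain ⟨_, ⟨D, hD, rfl⟩, hz, hle⟩ := P.isBasis_affineOpens.exists_subset_of_mem_open
      (show z ∈ pullback.snd j f ⁻¹ᵁ U (pullback.snd j f z) from hU _) (pullback.snd j f ⁻¹ᵁ U (pullback.snd j f z)).2
    exact ⟨D, hD, hz, hle⟩
  choose D hD hzD hDle using key
  obtain ⟨t, ht⟩ := hW.elim_finite_subcover (fun z : P => (D z : Set P)) (fun z => (D z).2)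
    (fun z _ => Set.mem_iUnion.2 ⟨z, hzD z⟩)
  choose θ hθ using fun i : t => Spec.map_surjective ((hD i.1).fromSpec ≫ pullback.fst j f)
  have hr : ∀ i : t, Set.range (((hD i.1).fromSpec ≫ pullback.snd j f)) ⊆
      Set.range (U (pullback.snd j f i.1)).ι := by
    intro i
    rw [Scheme.Opens.range_ι]
    rintro _ ⟨q, rfl⟩
    exact hDle i.1 ((hD i.1).range_fromSpec.le ⟨q, rfl⟩)
  refine ⟨{
    idx := t
    fin := inferInstance
    C := fun i => Γ(P, D i.1)
    ring := fun i => inferInstance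
    θ := fun i => (θ i).hom
    M := fun i => Multiplicative (M (pullback.snd j f i.1))
    grp := fun i => letI := inst (pullback.snd j f i.1); inferInstance
    chart := fun i => letI := inst (pullback.snd j f i.1)
      Chart.ofSplit ((U (pullback.snd j f i.1)).ι ≫ f) (IsOpenImmersion.lift _ _ (hr i))
        (by rw [IsOpenImmersion.lift_fac_assoc, Category.assoc, ← pullback.condition, ← Category.assoc, ← hθ]; rfl)
        (e (pullback.snd j f i.1)).some
    flat := fun i => by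
      show Flat (Spec.map (θ i))
      rw [hθ]
      infer_instance
    surj := fun x => ?_ }⟩
  obtain ⟨z, hz, rfl⟩ := hWimg.ge (Set.mem_univ x)
  obtain ⟨i, hi, hzi⟩ := Set.mem_iUnion₂.1 (ht hz)
  obtain ⟨q, rfl⟩ := (hD i).range_fromSpec.ge hzi
  refine ⟨⟨i, hi⟩, q, ?_⟩
  show Spec.map (θ ⟨i, hi⟩) q = _
  rw [hθ]
  rfl

variable {u v : H ⟶ G} {J : Ideal R}

theorem agree_map (hA : ∀ (Y : Over S) (_ : Y ⟶ Over.mk (Spec.map (CommRingCat.ofHom (Ideal.Quotient.mk J)) ≫ j))
    (h : Y ⟶ H), h ≫ u = h ≫ v) {R' : Type u} [CommRing R'] (θ : R →+* R') :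
    Agree u v (J.map θ) (Spec.map (CommRingCat.ofHom θ) ≫ j) := by
  intro C _ _ hC g
  let q : R ⧸ J →+* C := Ideal.Quotient.lift J ((algebraMap R' C).comp θ) fun r hr => hC _ (Ideal.mem_map_of_mem _ hr)
  refine hA _ (Over.homMk (Spec.map (CommRingCat.ofHom q)) ?_) g
  show Spec.map _ ≫ Spec.map _ ≫ j = Spec.map _ ≫ Spec.map _ ≫ j
  rw [← Spec.map_comp_assoc, ← Spec.map_comp_assoc]
  rfl

theorem map_mul_self (hJ : J * J = ⊥) {R' : Type u} [CommRing R'] (θ : R →+* R') :
    J.map θ * J.map θ = ⊥ := by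
  rw [← Ideal.map_mul, hJ, Ideal.map_bot]

theorem piece {R₁ : Type u} [CommRing R₁] {j₁ : Spec (CommRingCat.of R₁) ⟶ S} {M : Type} [CommGroup M]
    (e : Chart j₁ H M) {J₁ : Ideal R₁} (hA₁ : Agree u v J₁ j₁) (hJ₁ : J₁ * J₁ = ⊥)
    {B : Type u} [CommRing B] (a : R₁ →+* B) {jB : Spec (CommRingCat.of B) ⟶ S}
    (hj : Spec.map (CommRingCat.ofHom a) ≫ j₁ = jB) {JB : Ideal B} (hJB : JB = J₁.map a)
    (hAB : Agree u v JB jB) (hJB2 : JB * JB = ⊥) :
    Spec.map (CommRingCat.ofHom a) ≫ (avg e hA₁ hJ₁ R₁).left = (avg (e.restrict a hj) hAB hJB2 B).left := by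
  subst hJB
  letI := a.toAlgebra
  rw [avg_restrict a hj e hA₁ hJ₁]
  have h := avg_map e hA₁ hJ₁ e (Algebra.ofId R₁ B)
  exact congrArg (fun m => m.left) h

variable [IsMonHom u] [IsMonHom v]

theorem exists_conj (hJ : J * J = ⊥) (hH : TwC.Locally S TwC.Topology.fpqc (fun S' f =>
      ∃ (M : Type) (_ : AddCommGroup M), Nonempty (Grp.mk (Red.bc f H) ≅ Grp.mk (Red.DS S' M))))
    (hA : ∀ (Y : Over S) (_ : Y ⟶ Over.mk (Spec.map (CommRingCat.ofHom (Ideal.Quotient.mk J)) ≫ j))
      (h : Y ⟶ H), h ≫ u = h ≫ v) :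
    ∃ g : Over.mk j ⟶ G,
      (∀ (Y : Over S) (q : Y ⟶ Over.mk (Spec.map (CommRingCat.ofHom (Ideal.Quotient.mk J)) ≫ j))
        (p : Y ⟶ Over.mk j), p.left = q.left ≫ Spec.map (CommRingCat.ofHom (Ideal.Quotient.mk J)) → p ≫ g = 1) ∧
      ∀ (Y : Over S) (p : Y ⟶ Over.mk j) (h : Y ⟶ H), h ≫ v = (p ≫ g) * (h ≫ u) * (p ≫ g)⁻¹ := by
  obtain ⟨F⟩ := exists_family (j := j) hH
  let J' := fun i => J.map (F.θ i)
  let hA' := fun i => agree_map hA (F.θ i)
  let hJ' := fun i => map_mul_self hJ (F.θ i)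
  let gi := fun i => avg (F.chart i) (hA' i) (hJ' i) (F.C i)
  have hgi : ∀ i, (gi i).left ≫ G.hom = Spec.map (CommRingCat.ofHom (F.θ i)) ≫ j := fun i => by
    refine (Over.w (gi i)).trans ?_
    show Spec.map (CommRingCat.ofHom (RingHom.id _)) ≫ _ = _
    rw [CommRingCat.ofHom_id, Spec.map_id, Category.id_comp]
  let T : Scheme.{u} := ∐ fun i => Spec (CommRingCat.of (F.C i))
  let pT : T ⟶ Spec (CommRingCat.of R) := Sigma.desc fun i => Spec.map (CommRingCat.ofHom (F.θ i))
  have : Flat pT := IsZariskiLocalAtSource.sigmaDesc fun i => F.flat i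
  have : Surjective pT := ⟨fun x => by
    obtain ⟨i, q, hq⟩ := F.surj x
    refine ⟨Sigma.ι (fun i => Spec (CommRingCat.of (F.C i))) i q, ?_⟩
    rw [← Scheme.Hom.comp_apply, Sigma.ι_desc]
    exact hq⟩
  have : QuasiCompact pT := inferInstance
  let gT : T ⟶ G.left := Sigma.desc fun i => (gi i).left
  have hpieces : ∀ {Z : Scheme.{u}} (a : Z ⟶ T) (z : Z), ∃ i, ∃ W : Z.Opens, z ∈ W ∧
      ∃ b : W.toScheme ⟶ Spec (CommRingCat.of (F.C i)), b ≫ Sigma.ι (fun i => Spec (CommRingCat.of (F.C i))) i = W.ι ≫ a := by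
    intro Z a z
    obtain ⟨i, q, hq⟩ := (sigmaOpenCover (fun i => Spec (CommRingCat.of (F.C i)))).exists_eq (a z)
    let W : Z.Opens := a ⁻¹ᵁ (Sigma.ι (fun i => Spec (CommRingCat.of (F.C i))) i).opensRange
    have hr : Set.range (W.ι ≫ a) ⊆ Set.range (Sigma.ι (fun i => Spec (CommRingCat.of (F.C i))) i) := by
      rintro _ ⟨w, rfl⟩
      exact w.2
    exact ⟨i, W, ⟨q, hq⟩, IsOpenImmersion.lift _ _ hr, IsOpenImmersion.lift_fac _ _ _⟩
  have cond : ∀ {Z : Scheme.{u}} (a b : Z ⟶ T), a ≫ pT = b ≫ pT → a ≫ gT = b ≫ gT := by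
    intro Z a b hab
    choose i Wa hza ai hai using hpieces a
    choose k Wb hzb bk hbk using hpieces b
    have hloc : ∀ z : Z, ∃ (B : CommRingCat.{u}) (o : Spec B ⟶ Z) (_ : IsOpenImmersion o), z ∈ Set.range o ∧
        Set.range o ⊆ (Wa z : Set Z) ∩ Wb z := by
      intro z
      obtain ⟨_, ⟨D, hD, rfl⟩, hzD, hle⟩ := Z.isBasis_affineOpens.exists_subset_of_mem_open
        (show z ∈ Wa z ⊓ Wb z from ⟨hza z, hzb z⟩) (Wa z ⊓ Wb z).2
      exact ⟨_, hD.fromSpec, inferInstance, hD.range_fromSpec.ge hzD, hD.range_fromSpec.le.trans hle⟩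
    choose B o ho hzo hle using hloc
    refine (Z.openCoverOfIsOpenCover (fun z => (o z).opensRange) (TopologicalSpace.IsOpenCover.mk
      (top_le_iff.1 fun z _ => TopologicalSpace.Opens.mem_iSup.2 ⟨z, hzo z⟩))).hom_ext _ _ fun z => ?_
    suffices h : o z ≫ a ≫ gT = o z ≫ b ≫ gT by
      have h2 := congrArg ((o z).isoOpensRange.inv ≫ ·) h
      simp only [Scheme.Hom.isoOpensRange_inv_comp_assoc] at h2
      exact h2
    have hra : Set.range (o z) ⊆ Set.range (Wa z).ι := by
      rw [Scheme.Opens.range_ι]; exact (hle z).trans Set.inter_subset_left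
    have hrb : Set.range (o z) ⊆ Set.range (Wb z).ι := by
      rw [Scheme.Opens.range_ι]; exact (hle z).trans Set.inter_subset_right
    obtain ⟨α, hα⟩ := Spec.map_surjective (IsOpenImmersion.lift _ _ hra ≫ ai z)
    obtain ⟨β, hβ⟩ := Spec.map_surjective (IsOpenImmersion.lift _ _ hrb ≫ bk z)
    have ea : o z ≫ a = Spec.map α ≫ Sigma.ι (fun i => Spec (CommRingCat.of (F.C i))) (i z) := by
      rw [hα, Category.assoc, hai, IsOpenImmersion.lift_fac_assoc]
    have eb : o z ≫ b = Spec.map β ≫ Sigma.ι (fun i => Spec (CommRingCat.of (F.C i))) (k z) := by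
      rw [hβ, Category.assoc, hbk, IsOpenImmersion.lift_fac_assoc]
    have e1 : (α.hom).comp (F.θ (i z)) = (β.hom).comp (F.θ (k z)) := by
      have h1 := o z ≫= hab
      rw [reassoc_of% ea, reassoc_of% eb, Sigma.ι_desc, Sigma.ι_desc, ← Spec.map_comp, ← Spec.map_comp] at h1
      exact congrArg (fun m => m.hom) (Spec.map_injective h1)
    rw [reassoc_of% ea, reassoc_of% eb, Sigma.ι_desc, Sigma.ι_desc]
    let θB := (α.hom).comp (F.θ (i z))
    let jB := Spec.map (CommRingCat.ofHom θB) ≫ j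
    have hi : Spec.map α ≫ Spec.map (CommRingCat.ofHom (F.θ (i z))) ≫ j = jB := by
      rw [← Spec.map_comp_assoc]; rfl
    have hk : Spec.map β ≫ Spec.map (CommRingCat.ofHom (F.θ (k z))) ≫ j = jB := by
      rw [← Spec.map_comp_assoc]
      show Spec.map (CommRingCat.ofHom ((β.hom).comp (F.θ (k z)))) ≫ j = _
      rw [← e1]
    have hAB : Agree u v (J.map θB) jB := agree_map hA θB
    refine (piece (F.chart (i z)) (hA' _) (hJ' _) α.hom hi (Ideal.map_map _ _).symm hAB (map_mul_self hJ θB)).trans ?_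
    refine Eq.trans ?_ (piece (F.chart (k z)) (hA' _) (hJ' _) β.hom hk
      (show J.map θB = _ by rw [Ideal.map_map, ← e1]) hAB (map_mul_self hJ θB)).symm
    have h2 := avg_map ((F.chart (i z)).restrict α.hom hi) hAB (map_mul_self hJ θB)
      ((F.chart (k z)).restrict β.hom hk) (AlgHom.id (B z) (B z))
    rw [mor_id, Category.id_comp] at h2
    exact congrArg (fun m => m.left) h2
  let gR : Spec (CommRingCat.of R) ⟶ G.left := EffectiveEpi.desc pT gT (fun {Z} a b h => cond a b h)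
  have hfac : pT ≫ gR = gT := EffectiveEpi.fac pT gT _
  have hepi : Epi pT := Flat.epi_of_flat_of_surjective pT
  have hw : gR ≫ G.hom = j := by
    rw [← cancel_epi pT, reassoc_of% hfac]
    refine Sigma.hom_ext _ _ fun i => ?_
    rw [Sigma.ι_desc_assoc, Sigma.ι_desc_assoc, hgi]
  let g : Over.mk j ⟶ G := Over.homMk gR hw
  have hg : ∀ i, Spec.map (CommRingCat.ofHom (F.θ i)) ≫ gR = (gi i).left := fun i => by
    have := congrArg (Sigma.ι (fun i => Spec (CommRingCat.of (F.C i))) i ≫ ·) hfac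
    simp only [pT, gT, Sigma.ι_desc, Sigma.ι_desc_assoc] at this
    exact this
  have hlocal : ∀ (Y : Over S) (p : Y ⟶ Over.mk j) (a b : Y ⟶ G),
      (∀ (i : F.idx) (B : Type u) [CommRing B] [Algebra (F.C i) B]
        (ζ : X (Spec.map (CommRingCat.ofHom (F.θ i)) ≫ j) B ⟶ Y),
        ζ ≫ p ≫ g = mor _ (Algebra.ofId (F.C i) B) ≫ gi i →
        ζ.left ≫ p.left = Spec.map (CommRingCat.ofHom (algebraMap (F.C i) B)) ≫ Spec.map (CommRingCat.ofHom (F.θ i)) →
        ζ ≫ a = ζ ≫ b) → a = b := by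
    intro Y p a b h
    let q := pullback.fst p.left pT
    have : Epi q := Flat.epi_of_flat_of_surjective _
    apply Over.OverMorphism.ext
    rw [← cancel_epi q]
    choose i W hzW bi hbi using hpieces (pullback.snd p.left pT)
    have hloc : ∀ z, ∃ (B : CommRingCat.{u}) (o : Spec B ⟶ pullback p.left pT) (_ : IsOpenImmersion o),
        z ∈ Set.range o ∧ Set.range o ⊆ (W z : Set (pullback p.left pT : Scheme.{u})) := by
      intro z
      obtain ⟨_, ⟨D, hD, rfl⟩, hzD, hle⟩ := (pullback p.left pT).isBasis_affineOpens.exists_subset_of_mem_open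
        (hzW z) (W z).2
      exact ⟨_, hD.fromSpec, inferInstance, hD.range_fromSpec.ge hzD, hD.range_fromSpec.le.trans hle⟩
    choose B o ho hzo hle using hloc
    refine ((pullback p.left pT).openCoverOfIsOpenCover (fun z => (o z).opensRange) (TopologicalSpace.IsOpenCover.mk
      (top_le_iff.1 fun z _ => TopologicalSpace.Opens.mem_iSup.2 ⟨z, hzo z⟩))).hom_ext _ _ fun z => ?_
    suffices h1 : o z ≫ q ≫ a.left = o z ≫ q ≫ b.left by
      have h2 := congrArg ((o z).isoOpensRange.inv ≫ ·) h1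
      simp only [Scheme.Hom.isoOpensRange_inv_comp_assoc] at h2
      exact h2
    have hr : Set.range (o z) ⊆ Set.range (W z).ι := by rw [Scheme.Opens.range_ι]; exact hle z
    obtain ⟨α, hα⟩ := Spec.map_surjective (IsOpenImmersion.lift _ _ hr ≫ bi z)
    have ea : o z ≫ pullback.snd p.left pT =
        Spec.map α ≫ Sigma.ι (fun i => Spec (CommRingCat.of (F.C i))) (i z) := by
      rw [hα, Category.assoc, hbi, IsOpenImmersion.lift_fac_assoc]
    letI : Algebra (F.C (i z)) (B z) := α.hom.toAlgebra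
    have e2 : o z ≫ q ≫ p.left = Spec.map α ≫ Spec.map (CommRingCat.ofHom (F.θ (i z))) := by
      rw [show q ≫ p.left = pullback.snd p.left pT ≫ pT from pullback.condition, reassoc_of% ea, Sigma.ι_desc]
    let ζ : X (Spec.map (CommRingCat.ofHom (F.θ (i z))) ≫ j) (B z) ⟶ Y := Over.homMk (o z ≫ q) (by
      show (o z ≫ q) ≫ Y.hom = Spec.map α ≫ Spec.map _ ≫ j
      rw [← Over.w p]
      simp only [Category.assoc, reassoc_of% e2, Over.mk_hom])
    have h1 := h (i z) (B z) ζ (by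
      apply Over.OverMorphism.ext
      show (o z ≫ q) ≫ p.left ≫ gR = Spec.map α ≫ (gi (i z)).left
      rw [Category.assoc, reassoc_of% e2, hg]) (by
      show (o z ≫ q) ≫ p.left = _
      rw [Category.assoc, e2]; rfl)
    exact (Category.assoc _ _ _).symm.trans ((congrArg (fun m => m.left) h1).trans (Category.assoc _ _ _))
  refine ⟨g, fun Y q p hp => hlocal Y p _ _ fun i B _ _ ζ hζ hζp => ?_, fun Y p h => hlocal Y p _ _ fun i B _ _ ζ hζ hζp => ?_⟩
  · rw [hζ, MonObj.comp_one]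
    have e0 : mor _ (Algebra.ofId (F.C i) B) ≫ gi i = avg (F.chart i) (hA' i) (hJ' i) B :=
      avg_map (F.chart i) (hA' i) (hJ' i) (F.chart i) _
    rw [e0]
    have hmap : (algebraMap (F.C i) B).comp (F.θ i) =
        ((Spec.preimage (ζ.left ≫ q.left)).hom).comp (Ideal.Quotient.mk J) := by
      have h3 : Spec.map (CommRingCat.ofHom (F.θ i) ≫ CommRingCat.ofHom (algebraMap (F.C i) B)) =
          Spec.map (CommRingCat.ofHom (Ideal.Quotient.mk J) ≫ Spec.preimage (ζ.left ≫ q.left)) := by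
        rw [Spec.map_comp, Spec.map_comp, Spec.map_preimage, ← hζp, hp, Category.assoc]
      exact congrArg (fun m => m.hom) (Spec.map_injective h3)
    have hbot : JC (J.map (F.θ i)) B = ⊥ := by
      rw [eq_bot_iff, JC, Ideal.map_map, Ideal.map_le_iff_le_comap]
      intro r hr
      rw [Ideal.mem_comap, hmap, RingHom.comp_apply, Ideal.Quotient.eq_zero_iff_mem.2 hr, map_zero]
      exact zero_mem _
    let inv : (B ⧸ JC (J.map (F.θ i)) B) →ₐ[F.C i] B :=
      Ideal.Quotient.liftₐ _ (AlgHom.id _ _) fun x hx => by rwa [hbot, Ideal.mem_bot] at hx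
    have h4 := congrArg (mor _ inv ≫ ·) (avg_mod (F.chart i) (hA' i) (hJ' i) B)
    simp only [MonObj.comp_one, ← Category.assoc, ← mor_comp] at h4
    rw [show inv.comp ((Ideal.Quotient.mkₐ B (JC (J.map (F.θ i)) B)).restrictScalars (F.C i)) = AlgHom.id _ _ from
      AlgHom.ext fun x => rfl, mor_id, Category.id_comp] at h4
    exact h4
  · rw [MonObj.comp_mul, MonObj.comp_mul, GrpObj.comp_inv, hζ, ← Category.assoc, ← Category.assoc]
    obtain ⟨χ, hχ⟩ := ((F.chart i).bij B).2 (ζ ≫ h)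
    have e0 : mor _ (Algebra.ofId (F.C i) B) ≫ gi i = avg (F.chart i) (hA' i) (hJ' i) B :=
      avg_map (F.chart i) (hA' i) (hJ' i) (F.chart i) _
    rw [← hχ, e0]
    exact avg_spec (F.chart i) (hA' i) (hJ' i) B χ

end Groth.L25.Cocycle
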