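import Groth.Agent.L25.Cocycle.Local
import Groth.Agent.L25.NilAction

/-!
# Charts from splittings; change of base of charts
-/

set_option autoImplicit false
universe u

open CategoryTheory CategoryTheory.Limits MonoidalCategory CartesianMonoidalCategory MonObj GrpObj
open AlgebraicGeometry

set_option backward.isDefEq.respectTransparency.types false

noncomputable section

namespace Groth.L25.Cocycle

variable {S : Scheme.{u}} {R : Type u} [CommRing R] {j : Spec (CommRingCat.of R) ⟶ S}
  {H G : Over S} [GrpObj H] [GrpObj G]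

section OfSplit

variable {U : Scheme.{u}} (jU : U ⟶ S) (k : Spec (CommRingCat.of R) ⟶ U) (hk : k ≫ jU = j)
  {M : Type} [AddCommGroup M] (e : Grp.mk (Red.bc jU H) ≅ Grp.mk (Red.DS U M))

/-- comparison of the two spellings of `Spec C` over `S` -/
def adS (C : Type u) [CommRing C] [Algebra R C] : X j C ⟶ NilAction.YS jU k C :=
  Over.homMk (𝟙 _) (by
    show 𝟙 _ ≫ (Spec.map _ ≫ k) ≫ jU = Spec.map _ ≫ j
    rw [Category.id_comp, Category.assoc, hk])

instance (C : Type u) [CommRing C] [Algebra R C] : IsIso (adS jU k hk C) := by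
  have : IsIso (adS jU k hk C).left := inferInstanceAs (IsIso (𝟙 _))
  have : IsIso ((Over.forget S).map (adS jU k hk C)) := this
  exact isIso_of_reflects_iso _ (Over.forget S)

theorem gC_injective (C : Type u) [CommRing C] [Algebra R C] :
    Function.Injective (fun χ : Multiplicative M →* C => NilAction.gC jU e k χ) := by
  intro χ ψ h
  have h1 := congrArg (fun z => NilAction.ofBase jU z ≫ e.hom.hom.hom) h
  have h2 : e.inv.hom.hom ≫ e.hom.hom.hom = 𝟙 _ := congr($(e.inv_hom_id).hom.hom)
  simp only [NilAction.gC, NilAction.ofBase_toBase, Category.assoc, h2] at h1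
  have h3 : DSPts.pt (T := NilAction.YC k C) ((NilAction.toΓ C).comp χ) =
      DSPts.pt ((NilAction.toΓ C).comp ψ) := (Category.comp_id _).symm.trans (h1.trans (Category.comp_id _))
  have h4 := congrArg DSPts.char h3
  rw [DSPts.char_pt, DSPts.char_pt] at h4
  refine MonoidHom.ext fun m => ?_
  exact (ConcreteCategory.bijective_of_isIso (Scheme.ΓSpecIso (CommRingCat.of C)).inv).1 (DFunLike.congr_fun h4 m)

theorem gC_surjective {C : Type u} [CommRing C] [Algebra R C] (g : NilAction.YS jU k C ⟶ H) :
    ∃ χ : Multiplicative M →* C, NilAction.gC jU e k χ = g := by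
  let t := NilAction.ofBase jU g ≫ e.hom.hom.hom
  refine ⟨((Scheme.ΓSpecIso (CommRingCat.of C)).hom.hom.toMonoidHom).comp (DSPts.char t), ?_⟩
  have h1 : (NilAction.toΓ C).comp
      (((Scheme.ΓSpecIso (CommRingCat.of C)).hom.hom.toMonoidHom).comp (DSPts.char t)) = DSPts.char t :=
    MonoidHom.ext fun m => Iso.hom_inv_id_apply (Scheme.ΓSpecIso (CommRingCat.of C)) _
  have h2 : e.hom.hom.hom ≫ e.inv.hom.hom = 𝟙 _ := congr($(e.hom_inv_id).hom.hom)
  rw [NilAction.gC, h1, DSPts.pt_char, Category.assoc, h2, Category.comp_id, NilAction.toBase_ofBase]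

/-- the chart of a splitting -/
def Chart.ofSplit : Chart j H (Multiplicative M) where
  pt {C} _ _ χ := adS jU k hk C ≫ NilAction.gC jU e k χ
  pt_mul χ ψ := by rw [NilAction.gC_mul, MonObj.comp_mul]
  bij C _ _ := by
    refine ⟨fun χ ψ h => gC_injective jU k e C ((cancel_epi _).1 h), fun g => ?_⟩
    obtain ⟨χ, hχ⟩ := gC_surjective jU k e (inv (adS jU k hk C) ≫ g)
    exact ⟨χ, by simp only [hχ]; exact IsIso.hom_inv_id_assoc _ _⟩
  nat {C D} _ _ _ _ h χ := by
    have h1 : mor j h ≫ adS jU k hk C = adS jU k hk D ≫ NilAction.homS jU k h := by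
      apply Over.OverMorphism.ext
      simp [mor, adS, NilAction.homS]
    rw [← Category.assoc, h1, Category.assoc, NilAction.homS_gC]

end OfSplit

section Restrict

variable {R' : Type u} [CommRing R'] (θ : R →+* R') {j' : Spec (CommRingCat.of R') ⟶ S}
  (hj : Spec.map (CommRingCat.ofHom θ) ≫ j = j')

/-- algebras over the bigger ring as algebras over the smaller one -/
@[reducible] def downAlg (C : Type u) [CommRing C] [Algebra R' C] : Algebra R C :=
  ((algebraMap R' C).comp θ).toAlgebra

/-- comparison of `Spec C` over the two bases -/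
def adR (C : Type u) [CommRing C] [Algebra R' C] [Algebra R C] (hc : algebraMap R C = (algebraMap R' C).comp θ) :
    X j' C ⟶ X j C :=
  Over.homMk (𝟙 _) (by
    show 𝟙 _ ≫ Spec.map _ ≫ j = Spec.map _ ≫ j'
    rw [Category.id_comp, hc, CommRingCat.ofHom_comp, Spec.map_comp, Category.assoc, hj])

instance (C : Type u) [CommRing C] [Algebra R' C] [Algebra R C] (hc : algebraMap R C = (algebraMap R' C).comp θ) :
    IsIso (adR θ hj C hc) := by
  have : IsIso (adR θ hj C hc).left := inferInstanceAs (IsIso (𝟙 _))
  have : IsIso ((Over.forget S).map (adR θ hj C hc)) := this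
  exact isIso_of_reflects_iso _ (Over.forget S)

theorem adR_mor {C D : Type u} [CommRing C] [CommRing D] [Algebra R' C] [Algebra R' D] [Algebra R C]
    [Algebra R D] (hc : algebraMap R C = (algebraMap R' C).comp θ)
    (hd : algebraMap R D = (algebraMap R' D).comp θ) (h : C →ₐ[R'] D) (h₀ : C →ₐ[R] D)
    (hh : h₀.toRingHom = h.toRingHom) :
    mor j' h ≫ adR θ hj C hc = adR θ hj D hd ≫ mor j h₀ := by
  apply Over.OverMorphism.ext
  simp only [mor, adR, Over.comp_left, Over.homMk_left, hh, Category.comp_id, Category.id_comp]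

variable {M : Type} [CommGroup M]

/-- a chart restricted to a ring over the base -/
def Chart.restrict (e : Chart j H M) : Chart j' H M where
  pt {C} _ _ χ := letI := downAlg θ C; adR θ hj C rfl ≫ e.pt χ
  pt_mul {C} _ _ χ ψ := by
    letI := downAlg θ C
    rw [e.pt_mul, MonObj.comp_mul]
  bij C _ _ := by
    letI := downAlg θ C
    refine ⟨fun χ ψ h => (e.bij C).1 ((cancel_epi _).1 h), fun g => ?_⟩
    obtain ⟨χ, hχ⟩ := (e.bij C).2 (inv (adR θ hj C rfl) ≫ g)
    exact ⟨χ, by simp only [hχ]; exact IsIso.hom_inv_id_assoc _ _⟩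
  nat {C D} _ _ _ _ h χ := by
    letI := downAlg θ C
    letI := downAlg θ D
    let h₀ : C →ₐ[R] D := { h.toRingHom with commutes' := fun r => h.commutes (θ r) }
    rw [← Category.assoc, adR_mor θ hj rfl rfl h h₀ rfl, Category.assoc, e.nat]
    rfl

theorem Chart.restrict_pt (e : Chart j H M) {C : Type u} [CommRing C] [Algebra R' C] [i : Algebra R C]
    (hc : algebraMap R C = (algebraMap R' C).comp θ) (χ : M →* C) :
    (e.restrict θ hj).pt χ = adR θ hj C hc ≫ e.pt χ := by
  obtain rfl : i = downAlg θ C := Algebra.algebra_ext _ _ fun r => congrArg (fun f => f r) hc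
  rfl

variable {u v : H ⟶ G} {J : Ideal R}

/-- the average commutes with change of base -/
theorem avg_restrict (e : Chart j H M) (hA : Agree u v J j) (hJ : J * J = ⊥)
    (hA' : Agree u v (J.map θ) j') (hJ' : J.map θ * J.map θ = ⊥) :
    (avg (e.restrict θ hj) hA' hJ' R').left = (letI := θ.toAlgebra; (avg e hA hJ R').left) := by
  letI := θ.toAlgebra
  have hc : algebraMap R R' = (algebraMap R' R').comp θ := rfl
  have hcM : algebraMap R (MonoidAlgebra R' M) = (algebraMap R' (MonoidAlgebra R' M)).comp θ :=
    IsScalarTower.algebraMap_eq R R' (MonoidAlgebra R' M)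
  have hideal : JC (J.map θ) R' = JC J R' := Ideal.map_map _ _
  let inc' : sub J R' M →ₐ[R'] sub (J.map θ) R' M :=
    AlgHom.codRestrict (sub J R' M).val (sub (J.map θ) R' M) fun x =>
      (mem_sub_iff _).2 fun m hm => hideal.symm ▸ (mem_sub_iff x.1).1 x.2 m hm
  let a : X j' (sub (J.map θ) R' M) ⟶ X j (sub J R' M) :=
    Over.homMk (Spec.map (CommRingCat.ofHom inc'.toRingHom)) (by
      show Spec.map _ ≫ Spec.map _ ≫ j = Spec.map _ ≫ j'
      rw [← hj, ← Spec.map_comp_assoc, ← Spec.map_comp_assoc]
      rfl)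
  have key : a ≫ cp e hA R' = cp (e.restrict θ hj) hA' R' := by
    refine sub_ext ?_ ?_
    · rw [cp_val, cU, Chart.restrict_pt θ hj e hcM]
      rw [show mor j' ((sub (J.map θ) R' M).val.restrictScalars R') ≫ a ≫ cp e hA R' =
          adR θ hj (MonoidAlgebra R' M) hcM ≫ mor j ((sub J R' M).val.restrictScalars R) ≫ cp e hA R' by
        rw [← Category.assoc, ← Category.assoc]
        congr 1
        apply Over.OverMorphism.ext
        simp only [Over.comp_left, mor, adR, a, Over.homMk_left, Category.id_comp]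
        rw [← Spec.map_comp]
        rfl]
      rw [cp_val, cU, MonObj.comp_mul, GrpObj.comp_inv, Category.assoc, Category.assoc]
    · rw [cp_toQuot]
      let q : (R' ⧸ JC J R') →+* R' ⧸ JC (J.map θ) R' := Ideal.Quotient.factor hideal.ge
      have e1 : (mor j' ((toQuot (J.map θ) R' M).restrictScalars R') ≫ a).left =
          Spec.map (CommRingCat.ofHom q) ≫ (mor j ((toQuot J R' M).restrictScalars R)).left := by
        simp only [Over.comp_left, mor, a, Over.homMk_left]
        rw [← Spec.map_comp, ← Spec.map_comp]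
        congr 1
      apply Over.OverMorphism.ext
      rw [← Category.assoc, Over.comp_left, e1, Category.assoc, ← Over.comp_left, cp_toQuot,
        MonoFibres.one_left, MonoFibres.one_left, ← Category.assoc]
      congr 1
      show Spec.map (CommRingCat.ofHom q) ≫ Spec.map _ ≫ j = Spec.map _ ≫ j'
      rw [← hj, ← Spec.map_comp_assoc, ← Spec.map_comp_assoc]
      rfl
  rw [avg, avg, ← key, ← Category.assoc]
  simp only [Over.comp_left]
  rw [show (mor j' ((π (J.map θ) R' M hJ').restrictScalars R')).left ≫ a.left =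
      (mor j ((π J R' M hJ).restrictScalars R)).left by
    simp only [mor, a, Over.homMk_left]
    rw [← Spec.map_comp]
    rfl]

end Restrict

end Groth.L25.Cocycle
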