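import Groth.Agent.L25.Cocycle.Charts
import Groth.Agent.L25.Cocycle.Descend
import Groth.Agent.L25.Cocycle.Glue
import Groth.Agent.L25.FixedEtale
import Groth.Agent.L25.Locus.Content

/-!
# Averaging a point which is fixed modulo an ideal of square zero
-/

set_option autoImplicit false
universe u

open CategoryTheory CategoryTheory.Limits MonoidalCategory CartesianMonoidalCategory MonObj GrpObj
open AlgebraicGeometry Groth.L25.Locus

set_option backward.isDefEq.respectTransparency.types false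

noncomputable section

namespace Groth.L25.Cocycle

variable {S : Scheme.{u}} {R : Type u} [CommRing R] {j : Spec (CommRingCat.of R) ⟶ S}
  {H W : Over S} [GrpObj H] (a : AlgGrp.Action H W) {J : Ideal R} {M N : Type} [CommGroup M] [CommGroup N]
  (x : Over.mk j ⟶ W)

/-- `x` is fixed over algebras killed by `J` -/
def FixMod (J : Ideal R) (j : Spec (CommRingCat.of R) ⟶ S) (x : Over.mk j ⟶ W) : Prop :=
  ∀ (C : Type u) [CommRing C] [Algebra R C], (∀ r ∈ J, algebraMap R C r = 0) →
    ∀ g : X j C ⟶ H, lift g (toJ j C ≫ x) ≫ a.act = toJ j C ≫ x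

/-- the universal translate -/
def aU (e : Chart j H M) (C : Type u) [CommRing C] [Algebra R C] : X j (MonoidAlgebra C M) ⟶ W :=
  lift (e.pt (MonoidAlgebra.of C M)) (toJ j (MonoidAlgebra C M) ≫ x) ≫ a.act

variable {a x} (e : Chart j H M) (hx : FixMod a J j x)

theorem lift_nat {C D : Type u} [CommRing C] [Algebra R C] [CommRing D] [Algebra R D] (h : C →ₐ[R] D) (χ : M →* C)
    (y : X j C ⟶ W) : mor j h ≫ lift (e.pt χ) y ≫ a.act =
      lift (e.pt ((h : C →* D).comp χ)) (mor j h ≫ y) ≫ a.act := by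
  rw [comp_lift_assoc, e.nat]

include hx in
theorem exists_ap (C : Type u) [CommRing C] [Algebra R C] :
    ∃ c : X j (sub J C M) ⟶ W, mor j ((sub J C M).val.restrictScalars R) ≫ c = aU a x e C ∧
      mor j ((toQuot J C M).restrictScalars R) ≫ c = toJ j (C ⧸ JC J C) ≫ x := by
  have hker : ∀ r ∈ J, algebraMap R (MonoidAlgebra (C ⧸ JC J C) M) r = 0 := fun r hr => by
    rw [IsScalarTower.algebraMap_apply R (C ⧸ JC J C) (MonoidAlgebra (C ⧸ JC J C) M),
      algebraMap_quot_eq_zero C hr, map_zero]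
  have h1 : mor j ((redC J C M).restrictScalars R) ≫ aU a x e C =
      mor j (IsScalarTower.toAlgHom R (C ⧸ JC J C) (MonoidAlgebra (C ⧸ JC J C) M)) ≫ toJ j (C ⧸ JC J C) ≫ x := by
    rw [aU, lift_nat, ← Category.assoc (mor j ((redC J C M).restrictScalars R)), mor_toJ, hx _ hker,
      ← Category.assoc, mor_toJ]
  obtain ⟨c, hc1, hc2⟩ := (isFib J C M).exists_desc_hom (Q := W.left) (toJ j (C ⧸ JC J C) ≫ x).left
    (aU a x e C).left (congrArg (fun m => m.left) h1).symm
  have hw : c ≫ W.hom = (X j (sub J C M)).hom := by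
    refine (isFib J C M).hom_ext_spec _ _ ?_ ?_
    · rw [reassoc_of% hc1]
      exact (Over.w (toJ j (C ⧸ JC J C) ≫ x)).trans (Over.w (mor j ((toQuot J C M).restrictScalars R))).symm
    · rw [reassoc_of% hc2]
      exact (Over.w (aU a x e C)).trans (Over.w (mor j ((sub J C M).val.restrictScalars R))).symm
  exact ⟨Over.homMk c hw, Over.OverMorphism.ext hc2, Over.OverMorphism.ext hc1⟩

/-- the universal translate on `sub` -/
def ap (C : Type u) [CommRing C] [Algebra R C] : X j (sub J C M) ⟶ W := (exists_ap e hx C).choose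

theorem ap_val (C : Type u) [CommRing C] [Algebra R C] :
    mor j ((sub J C M).val.restrictScalars R) ≫ ap e hx C = aU a x e C := (exists_ap e hx C).choose_spec.1

theorem ap_toQuot (C : Type u) [CommRing C] [Algebra R C] :
    mor j ((toQuot J C M).restrictScalars R) ≫ ap e hx C = toJ j (C ⧸ JC J C) ≫ x := (exists_ap e hx C).choose_spec.2

theorem sub_extW {C : Type u} [CommRing C] [Algebra R C] {p q : X j (sub J C M) ⟶ W}
    (h1 : mor j ((sub J C M).val.restrictScalars R) ≫ p = mor j ((sub J C M).val.restrictScalars R) ≫ q)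
    (h2 : mor j ((toQuot J C M).restrictScalars R) ≫ p = mor j ((toQuot J C M).restrictScalars R) ≫ q) : p = q :=
  Over.OverMorphism.ext ((isFib J C M).hom_ext_spec _ _ (congrArg (fun m => m.left) h2)
    (congrArg (fun m => m.left) h1))

variable (hJ : J * J = ⊥)

/-- the averaged point -/
def avgX (C : Type u) [CommRing C] [Algebra R C] : X j C ⟶ W :=
  mor j ((π J C M hJ).restrictScalars R) ≫ ap e hx C

theorem avgX_mod (C : Type u) [CommRing C] [Algebra R C] :
    mor j ((Ideal.Quotient.mkₐ C (JC J C)).restrictScalars R) ≫ avgX e hx hJ C = toJ j (C ⧸ JC J C) ≫ x := by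
  rw [avgX, ← Category.assoc, ← mor_comp]
  rw [show ((Ideal.Quotient.mkₐ C (JC J C)).restrictScalars R).comp ((π J C M hJ).restrictScalars R) =
    (toQuot J C M).restrictScalars R from AlgHom.ext fun z => mk_π hJ z]
  exact ap_toQuot e hx C

include hJ in
theorem ap_subMap {C D : Type u} [CommRing C] [Algebra R C] [CommRing D] [Algebra R D] (h : C →ₐ[R] D)
    (χ : M →* MonoidAlgebra D N) :
    mor j ((sub J D N).val.restrictScalars R) ≫ mor j (subMap h χ) ≫ ap e hx C =
      lift (e.pt χ) (toJ j (MonoidAlgebra D N) ≫ x) ≫ a.act ∧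
    mor j ((toQuot J D N).restrictScalars R) ≫ mor j (subMap h χ) ≫ ap e hx C = toJ j (D ⧸ JC J D) ≫ x := by
  constructor
  · have e1 : mor j (twist h χ) ≫ aU a x e C = lift (e.pt χ) (toJ j (MonoidAlgebra D N) ≫ x) ≫ a.act := by
      rw [aU, lift_nat, ← Category.assoc (mor j (twist h χ)), mor_toJ, twist_comp_of]
    rw [← e1, ← Category.assoc, ← mor_comp, ← ap_val e hx C, ← Category.assoc, ← mor_comp]
    rfl
  · obtain ⟨q, hq⟩ := mor_quotientMap (M := M) (N := N) (J := J) h
    rw [← Category.assoc, ← mor_comp,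
      show ((toQuot J D N).restrictScalars R).comp (subMap h χ) = q.comp ((toQuot J C M).restrictScalars R) from
        AlgHom.ext fun z => (hq z χ hJ).symm,
      mor_comp, Category.assoc, ap_toQuot, ← Category.assoc, mor_toJ]

theorem avgX_map (e' : Chart j H N) {C D : Type u} [CommRing C] [Algebra R C] [CommRing D] [Algebra R D]
    (h : C →ₐ[R] D) : mor j h ≫ avgX e hx hJ C = avgX e' hx hJ D := by
  obtain ⟨χ, hχ⟩ := (e.bij (MonoidAlgebra D N)).2 (e'.pt (MonoidAlgebra.of D N))
  obtain ⟨h1, h2⟩ := ap_subMap e hx hJ h χ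
  have key : mor j (subMap h χ) ≫ ap e hx C = ap e' hx D := by
    refine sub_extW ?_ (h2.trans (ap_toQuot e' hx D).symm)
    rw [h1, ap_val, aU, hχ]
  rw [avgX, avgX, ← key, ← Category.assoc, ← Category.assoc, ← mor_comp, ← mor_comp]
  congr 2
  exact AlgHom.ext fun z => (π_subMap h χ hJ (coeff_one_eq_zero e e' χ hχ) z).symm

/-- the average is fixed -/
theorem avgX_spec (C : Type u) [CommRing C] [Algebra R C] (χ : M →* C) :
    lift (e.pt χ) (avgX e hx hJ C) ≫ a.act = avgX e hx hJ C := by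
  classical
  let D := MonoidAlgebra C M
  let inc : C →ₐ[R] D := IsScalarTower.toAlgHom R C D
  let xi : M →* MonoidAlgebra D M := (algebraMap D (MonoidAlgebra D M)).toMonoidHom.comp (MonoidAlgebra.of C M)
  let et : M →* MonoidAlgebra D M := MonoidAlgebra.of D M
  let Q : X j (sub J D M) ⟶ X j D := mor j ((Algebra.ofId D (sub J D M)).restrictScalars R)
  obtain ⟨h1, h2⟩ := ap_subMap e hx hJ inc (xi * et)
  have hxi : mor j ((sub J D M).val.restrictScalars R) ≫ Q ≫ e.pt (MonoidAlgebra.of C M) = e.pt xi := by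
    rw [← Category.assoc, ← mor_comp, e.nat]
    rfl
  have hker : ∀ r ∈ J, algebraMap R (D ⧸ JC J D) r = 0 := fun r hr => algebraMap_quot_eq_zero D hr
  have key : mor j (subMap inc (xi * et)) ≫ ap e hx C =
      lift (Q ≫ e.pt (MonoidAlgebra.of C M)) (ap e hx D) ≫ a.act := by
    refine sub_extW ?_ ?_
    · rw [h1, comp_lift_assoc, hxi, ap_val, aU, e.pt_mul, ← FixedEtale.mul_smul]
    · rw [h2, comp_lift_assoc, ap_toQuot, hx _ hker]
  have h3 := congrArg (mor j ((π J D M hJ).restrictScalars R) ≫ ·) key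
  have hQ : mor j ((π J D M hJ).restrictScalars R) ≫ Q = 𝟙 _ := by
    rw [← mor_comp, ← mor_id]
    congr 1
    exact AlgHom.ext fun z => (π J D M hJ).commutes z
  have hπ : ((π J D M hJ).restrictScalars R).comp (subMap inc (xi * et)) =
      inc.comp ((π J C M hJ).restrictScalars R) := by
    refine AlgHom.ext fun z => π_subMap inc (xi * et) hJ (fun m hm => ?_) z
    simp [xi, et, MonoidAlgebra.coe_algebraMap, coeff_single_one_mul, MonoidAlgebra.coeff_single,
      Finsupp.single_apply, hm]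
  simp only [comp_lift_assoc, reassoc_of% hQ] at h3
  rw [← Category.assoc, ← mor_comp, hπ, mor_comp, Category.assoc] at h3
  change mor j inc ≫ avgX e hx hJ C = lift (e.pt (MonoidAlgebra.of C M)) (avgX e hx hJ D) ≫ a.act at h3
  rw [← avgX_map e hx hJ e inc] at h3
  let ev : D →ₐ[R] C := (MonoidAlgebra.lift C C M χ).restrictScalars R
  have h4 := congrArg (mor j ev ≫ ·) h3
  have hev : mor j ev ≫ mor j inc = 𝟙 _ := by
    rw [← mor_comp, ← mor_id]
    congr 1
    exact AlgHom.ext fun z => (MonoidAlgebra.lift C C M χ).commutes z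
  have hpt : mor j ev ≫ e.pt (MonoidAlgebra.of C M) = e.pt χ := by
    rw [e.nat]
    congr 1
    exact MonoidHom.ext fun m => MonoidAlgebra.lift_of _ m
  simp only [comp_lift_assoc, hpt, reassoc_of% hev] at h4
  exact h4.symm

section Restrict

variable {R' : Type u} [CommRing R'] (θ : R →+* R')

/-- the point restricted -/
def resPt (x : Over.mk j ⟶ W) : Over.mk (Spec.map (CommRingCat.ofHom θ) ≫ j) ⟶ W :=
  (Over.homMk (Spec.map (CommRingCat.ofHom θ)) rfl : _ ⟶ Over.mk j) ≫ x

theorem FixMod.restrict (hx : FixMod a J j x) :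
    FixMod a (J.map θ) (Spec.map (CommRingCat.ofHom θ) ≫ j) (resPt θ x) := by
  intro C _ _ hC g
  letI := downAlg θ C
  let ad := adR θ (rfl : Spec.map (CommRingCat.ofHom θ) ≫ j = _) C rfl
  have e : toJ (Spec.map (CommRingCat.ofHom θ) ≫ j) C ≫ resPt θ x = ad ≫ toJ j C ≫ x := by
    rw [resPt, ← Category.assoc, ← adR_toJ θ C rfl, Category.assoc]
  have h1 := hx C (fun r hr => hC _ (Ideal.mem_map_of_mem _ hr)) (inv ad ≫ g)
  rw [e]
  have h2 := congrArg (ad ≫ ·) h1
  simp only [comp_lift_assoc, IsIso.hom_inv_id_assoc] at h2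
  exact h2

theorem avgX_restrict (e : Chart j H M) (hx : FixMod a J j x) (hJ : J * J = ⊥)
    {j' : Spec (CommRingCat.of R') ⟶ S} (hj : Spec.map (CommRingCat.ofHom θ) ≫ j = j') {xB : Over.mk j' ⟶ W}
    (hxe : xB.left = Spec.map (CommRingCat.ofHom θ) ≫ x.left)
    (hx' : FixMod a (J.map θ) j' xB) (hJ' : J.map θ * J.map θ = ⊥) :
    (avgX (e.restrict θ hj) hx' hJ' R').left = (letI := θ.toAlgebra; (avgX e hx hJ R').left) := by
  letI := θ.toAlgebra
  have hcM : algebraMap R (MonoidAlgebra R' M) = (algebraMap R' (MonoidAlgebra R' M)).comp θ :=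
    IsScalarTower.algebraMap_eq R R' (MonoidAlgebra R' M)
  have hideal : JC (J.map θ) R' = JC J R' := Ideal.map_map _ _
  let inc' : sub J R' M →ₐ[R'] sub (J.map θ) R' M :=
    AlgHom.codRestrict (sub J R' M).val (sub (J.map θ) R' M) fun z =>
      (mem_sub_iff _).2 fun m hm => hideal.symm ▸ (mem_sub_iff z.1).1 z.2 m hm
  let c : X j' (sub (J.map θ) R' M) ⟶ X j (sub J R' M) :=
    Over.homMk (Spec.map (CommRingCat.ofHom inc'.toRingHom)) (by
      show Spec.map _ ≫ Spec.map _ ≫ j = Spec.map _ ≫ j'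
      rw [← hj, ← Spec.map_comp_assoc, ← Spec.map_comp_assoc]
      rfl)
  have key : c ≫ ap e hx R' = ap (e.restrict θ hj) hx' R' := by
    refine sub_extW ?_ ?_
    · rw [ap_val, aU, Chart.restrict_pt θ hj e hcM]
      rw [show mor j' ((sub (J.map θ) R' M).val.restrictScalars R') ≫ c ≫ ap e hx R' =
          adR θ hj (MonoidAlgebra R' M) hcM ≫ mor j ((sub J R' M).val.restrictScalars R) ≫ ap e hx R' by
        rw [← Category.assoc, ← Category.assoc]
        congr 1
        apply Over.OverMorphism.ext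
        simp only [Over.comp_left, mor, adR, c, Over.homMk_left, Category.id_comp]
        rw [← Spec.map_comp]
        rfl]
      rw [ap_val, aU, comp_lift_assoc]
      congr 2
      apply Over.OverMorphism.ext
      simp only [Over.comp_left, toJ, adR, Over.homMk_left, hxe, Category.id_comp]
      rw [← Spec.map_comp_assoc, ← CommRingCat.ofHom_comp, ← hcM]
    · rw [ap_toQuot]
      let q : (R' ⧸ JC J R') →+* R' ⧸ JC (J.map θ) R' := Ideal.Quotient.factor hideal.ge
      have e1 : (mor j' ((toQuot (J.map θ) R' M).restrictScalars R') ≫ c).left =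
          Spec.map (CommRingCat.ofHom q) ≫ (mor j ((toQuot J R' M).restrictScalars R)).left := by
        simp only [Over.comp_left, mor, c, Over.homMk_left]
        rw [← Spec.map_comp, ← Spec.map_comp]
        congr 1
      apply Over.OverMorphism.ext
      rw [← Category.assoc, Over.comp_left, e1, Category.assoc, ← Over.comp_left, ap_toQuot]
      simp only [Over.comp_left, toJ, Over.homMk_left, hxe]
      rw [← Spec.map_comp_assoc, ← Spec.map_comp_assoc]
      rfl
  rw [avgX, avgX, ← key, ← Category.assoc]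
  simp only [Over.comp_left]
  rw [show (mor j' ((π (J.map θ) R' M hJ').restrictScalars R')).left ≫ c.left =
      (mor j ((π J R' M hJ).restrictScalars R)).left by
    simp only [mor, c, Over.homMk_left]
    rw [← Spec.map_comp]
    rfl]

end Restrict

theorem pieceX {R₁ : Type u} [CommRing R₁] {j₁ : Spec (CommRingCat.of R₁) ⟶ S} {M : Type} [CommGroup M]
    (e : Chart j₁ H M) {J₁ : Ideal R₁} {x₁ : Over.mk j₁ ⟶ W} (hx₁ : FixMod a J₁ j₁ x₁) (hJ₁ : J₁ * J₁ = ⊥)
    {B : Type u} [CommRing B] (α : R₁ →+* B) {jB : Spec (CommRingCat.of B) ⟶ S}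
    (hj : Spec.map (CommRingCat.ofHom α) ≫ j₁ = jB) {JB : Ideal B} (hJB : JB = J₁.map α) {xB : Over.mk jB ⟶ W}
    (hxe : xB.left = Spec.map (CommRingCat.ofHom α) ≫ x₁.left) (hxB : FixMod a JB jB xB) (hJB2 : JB * JB = ⊥) :
    Spec.map (CommRingCat.ofHom α) ≫ (avgX e hx₁ hJ₁ R₁).left = (avgX (e.restrict α hj) hxB hJB2 B).left := by
  subst hJB
  letI := α.toAlgebra
  rw [avgX_restrict α e hx₁ hJ₁ hj hxe]
  exact congrArg (fun m => m.left) (avgX_map e hx₁ hJ₁ e (Algebra.ofId R₁ B))

/-- fixed points lift along an ideal of square zero, given any lift -/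
theorem exists_fixed (hJ : J * J = ⊥) (hH : TwC.Locally S TwC.Topology.fpqc (fun S' f =>
      ∃ (M : Type) (_ : AddCommGroup M), Nonempty (Grp.mk (Red.bc f H) ≅ Grp.mk (Red.DS S' M))))
    (hx : FixMod a J j x) :
    ∃ x' : Over.mk j ⟶ W,
      (∀ (Y : Over S) (q : Y ⟶ Over.mk (Spec.map (CommRingCat.ofHom (Ideal.Quotient.mk J)) ≫ j))
        (p : Y ⟶ Over.mk j), p.left = q.left ≫ Spec.map (CommRingCat.ofHom (Ideal.Quotient.mk J)) →
          p ≫ x' = p ≫ x) ∧
      ∀ (Y : Over S) (p : Y ⟶ Over.mk j) (h : Y ⟶ H), lift h (p ≫ x') ≫ a.act = p ≫ x' := by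
  obtain ⟨F⟩ := exists_family (j := j) hH
  let hxi := fun i => hx.restrict (F.θ i)
  let hJi := fun i => map_mul_self hJ (F.θ i)
  let g := fun i => avgX (F.chart i) (hxi i) (hJi i) (F.C i)
  let V : Glue.Values F.θ (𝟙 (Spec (CommRingCat.of R))) W.left :=
    { val := fun i B _ z => Spec.map (CommRingCat.ofHom z.1.1) ≫ (g i).left
      nat := fun i {B B'} _ _ b z => by
        rw [← Spec.map_comp_assoc]; rfl
      compat := fun i k B _ z w hzw => by
        let θB := z.1.1.comp (F.θ i)
        have e1 : θB = w.1.1.comp (F.θ k) := by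
          have h1 := z.2
          rw [hzw, w.2, ← Spec.map_comp, ← Spec.map_comp] at h1
          exact congrArg (fun m => m.hom) (Spec.map_injective h1).symm
        let jB := Spec.map (CommRingCat.ofHom θB) ≫ j
        have hi : Spec.map (CommRingCat.ofHom z.1.1) ≫ Spec.map (CommRingCat.ofHom (F.θ i)) ≫ j = jB := by
          rw [← Spec.map_comp_assoc]; rfl
        have hk : Spec.map (CommRingCat.ofHom w.1.1) ≫ Spec.map (CommRingCat.ofHom (F.θ k)) ≫ j = jB := by
          rw [← Spec.map_comp_assoc, ← CommRingCat.ofHom_comp, ← e1]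
        have hxB := hx.restrict θB
        refine (pieceX (F.chart i) (hxi i) (hJi i) z.1.1 hi (Ideal.map_map _ _).symm ?_ hxB (map_mul_self hJ θB)).trans ?_
        · show Spec.map _ ≫ x.left = Spec.map _ ≫ Spec.map _ ≫ x.left
          rw [← Spec.map_comp_assoc]
          rfl
        refine Eq.trans ?_ (pieceX (F.chart k) (hxi k) (hJi k) w.1.1 hk
          (show J.map θB = _ by rw [Ideal.map_map, ← e1]) ?_ hxB (map_mul_self hJ θB)).symm
        swap
        · show Spec.map _ ≫ x.left = Spec.map _ ≫ Spec.map _ ≫ x.left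
          rw [← Spec.map_comp_assoc, ← CommRingCat.ofHom_comp, ← e1]
        have h2 := avgX_map ((F.chart i).restrict z.1.1 hi) hxB (map_mul_self hJ θB)
          ((F.chart k).restrict w.1.1 hk) (AlgHom.id B B)
        rw [mor_id, Category.id_comp] at h2
        exact congrArg (fun m => m.left) h2 }
  obtain ⟨φ, hφ⟩ := Glue.exists_desc F.flat F.surj V
  have hφi : ∀ i, Spec.map (CommRingCat.ofHom (F.θ i)) ≫ φ = (g i).left := fun i => by
    refine (hφ i (F.C i) ⟨(RingHom.id _, Spec.map (CommRingCat.ofHom (F.θ i))), ?_⟩).trans ?_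
    · rw [Category.comp_id, CommRingCat.ofHom_id, Spec.map_id, Category.id_comp]
    · show Spec.map (CommRingCat.ofHom (RingHom.id _)) ≫ _ = _
      rw [CommRingCat.ofHom_id, Spec.map_id, Category.id_comp]
  have hw : φ ≫ W.hom = j := by
    refine Glue.ext_pts (θ := F.θ) (p := 𝟙 _) F.flat F.surj _ _ fun i B _ z => ?_
    have hz : z.1.2 = Spec.map (CommRingCat.ofHom z.1.1) ≫ Spec.map (CommRingCat.ofHom (F.θ i)) :=
      (Category.comp_id _).symm.trans z.2
    rw [hz, Category.assoc, Category.assoc, reassoc_of% (hφi i)]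
    refine congrArg (Spec.map (CommRingCat.ofHom z.1.1) ≫ ·) ((Over.w (g i)).trans ?_)
    show Spec.map (CommRingCat.ofHom (RingHom.id _)) ≫ _ = _
    rw [CommRingCat.ofHom_id, Spec.map_id, Category.id_comp]
  let x' : Over.mk j ⟶ W := Over.homMk φ hw
  have hlocal : ∀ (Y : Over S) (p : Y ⟶ Over.mk j) (b c : Y ⟶ W),
      (∀ (i : F.idx) (B : Type u) [CommRing B] [Algebra (F.C i) B]
        (ζ : X (Spec.map (CommRingCat.ofHom (F.θ i)) ≫ j) B ⟶ Y),
        ζ ≫ p ≫ x' = avgX (F.chart i) (hxi i) (hJi i) B →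
        ζ.left ≫ p.left = Spec.map (CommRingCat.ofHom (algebraMap (F.C i) B)) ≫ Spec.map (CommRingCat.ofHom (F.θ i)) →
        ζ ≫ b = ζ ≫ c) → b = c := by
    intro Y p b c h
    refine Over.OverMorphism.ext (Glue.ext_pts (θ := F.θ) (p := p.left) F.flat F.surj _ _ fun i B _ z => ?_)
    letI := z.1.1.toAlgebra
    let ζ : X (Spec.map (CommRingCat.ofHom (F.θ i)) ≫ j) B ⟶ Y := Over.homMk z.1.2 (by
      show z.1.2 ≫ Y.hom = Spec.map (CommRingCat.ofHom z.1.1) ≫ Spec.map _ ≫ j
      rw [← Over.w p, reassoc_of% z.2]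
      rfl)
    refine congrArg (fun m => m.left) (h i B ζ ?_ z.2)
    rw [← avgX_map (F.chart i) (hxi i) (hJi i) (F.chart i) (Algebra.ofId (F.C i) B)]
    apply Over.OverMorphism.ext
    show z.1.2 ≫ p.left ≫ φ = Spec.map (CommRingCat.ofHom z.1.1) ≫ (g i).left
    rw [reassoc_of% z.2, hφi]
  refine ⟨x', fun Y q p hp => hlocal Y p _ _ fun i B _ _ ζ hζ hζp => ?_,
    fun Y p h => hlocal Y p _ _ fun i B _ _ ζ hζ hζp => ?_⟩
  · rw [hζ]
    have hmap : (algebraMap (F.C i) B).comp (F.θ i) =
        ((Spec.preimage (ζ.left ≫ q.left)).hom).comp (Ideal.Quotient.mk J) := by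
      have h3 : Spec.map (CommRingCat.ofHom (F.θ i) ≫ CommRingCat.ofHom (algebraMap (F.C i) B)) =
          Spec.map (CommRingCat.ofHom (Ideal.Quotient.mk J) ≫ Spec.preimage (ζ.left ≫ q.left)) := by
        rw [Spec.map_comp, Spec.map_comp, Spec.map_preimage, ← hζp, hp, Category.assoc]
      exact congrArg (fun m => m.hom) (Spec.map_injective h3)
    have hbot : JC (J.map (F.θ i)) B = ⊥ := by
      rw [eq_bot_iff, JC, Ideal.map_map, Ideal.map_le_iff_le_comap]
      intro r hr
      rw [Ideal.mem_comap, hmap, RingHom.comp_apply, Ideal.Quotient.eq_zero_iff_mem.2 hr, map_zero]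
      exact zero_mem _
    let inv : (B ⧸ JC (J.map (F.θ i)) B) →ₐ[F.C i] B :=
      Ideal.Quotient.liftₐ _ (AlgHom.id _ _) fun z hz => by rwa [hbot, Ideal.mem_bot] at hz
    have h4 := congrArg (mor _ inv ≫ ·) (avgX_mod (F.chart i) (hxi i) (hJi i) B)
    simp only [← Category.assoc, ← mor_comp, mor_toJ] at h4
    rw [show inv.comp ((Ideal.Quotient.mkₐ B (JC (J.map (F.θ i)) B)).restrictScalars (F.C i)) = AlgHom.id _ _ from
      AlgHom.ext fun z => rfl, mor_id, Category.id_comp] at h4
    rw [h4]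
    apply Over.OverMorphism.ext
    show Spec.map _ ≫ Spec.map _ ≫ x.left = ζ.left ≫ p.left ≫ x.left
    rw [← Category.assoc ζ.left, hζp, Category.assoc]
  · rw [comp_lift_assoc, hζ]
    obtain ⟨χ, hχ⟩ := ((F.chart i).bij B).2 (ζ ≫ h)
    rw [← hχ]
    exact avgX_spec (F.chart i) (hxi i) (hJi i) B χ

end Groth.L25.Cocycle
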