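import Groth.Agent.L25.Cocycle.Charts
import Mathlib.RingTheory.Idempotents
import Mathlib.RingTheory.Nilpotent.Lemmas

/-!
# Homomorphisms between charts, on points; lifting along a nilpotent ideal
-/

set_option autoImplicit false
universe u

open CategoryTheory CategoryTheory.Limits MonoidalCategory CartesianMonoidalCategory MonObj GrpObj
open AlgebraicGeometry

set_option backward.isDefEq.respectTransparency.types false

noncomputable section

namespace Groth.L25.Cocycle

/-- a grouplike element of `A[M]` -/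
def IsGL {A : Type u} [CommRing A] {M : Type} [CommGroup M] (x : MonoidAlgebra A M) : Prop :=
  MonoidAlgebra.mapDomain (MonoidHom.inl M M) x * MonoidAlgebra.mapDomain (MonoidHom.inr M M) x =
      MonoidAlgebra.mapDomain ((MonoidHom.id M).prod (MonoidHom.id M)) x ∧
    MonoidAlgebra.lift A A M 1 x = 1

theorem IsGL.coeff_mul {A : Type u} [CommRing A] {M : Type} [CommGroup M] [DecidableEq M] {x : MonoidAlgebra A M}
    (hx : IsGL x) (n k : M) : x.coeff n * x.coeff k = if n = k then x.coeff n else 0 := by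
  have h := congrArg (fun z => MonoidAlgebra.coeff z (n, k)) hx.1
  simp only [coeff_pair] at h
  rw [h, MonoidAlgebra.coeff_mapDomain]
  split_ifs with e
  · subst e
    exact Finsupp.mapDomain_apply (fun a b e => (Prod.ext_iff.1 e).1) _ n
  · refine Finsupp.mapDomain_notin_range _ _ ?_
    rintro ⟨q, hq⟩
    exact e ((Prod.ext_iff.1 hq).1.symm.trans (Prod.ext_iff.1 hq).2)

theorem IsGL.mul {A : Type u} [CommRing A] {M : Type} [CommGroup M] {x y : MonoidAlgebra A M}
    (hx : IsGL x) (hy : IsGL y) : IsGL (x * y) := by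
  refine ⟨?_, by rw [map_mul, hx.2, hy.2, _root_.mul_one]⟩
  rw [MonoidAlgebra.mapDomain_mul, MonoidAlgebra.mapDomain_mul, MonoidAlgebra.mapDomain_mul,
    _root_.mul_mul_mul_comm, hx.1, hy.1]

theorem IsGL.ext {A A' : Type u} [CommRing A] [CommRing A'] (g : A →+* A') (hg : ∀ a, g a = 0 → IsNilpotent a)
    {M : Type} [CommGroup M] {x y : MonoidAlgebra A M} (hx : IsGL x) (hy : IsGL y)
    (h : ∀ m, g (x.coeff m) = g (y.coeff m)) : x = y := by
  classical
  refine MonoidAlgebra.ext (Finsupp.ext fun m => ?_)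
  refine eq_of_isNilpotent_sub_of_isIdempotentElem ?_ ?_ (hg _ (by rw [map_sub, h, sub_self]))
  · have := hx.coeff_mul m m; rwa [if_pos rfl] at this
  · have := hy.coeff_mul m m; rwa [if_pos rfl] at this

theorem IsGL.exists_lift {A A' : Type u} [CommRing A] [CommRing A'] (g : A →+* A') (hs : Function.Surjective g)
    (hg : ∀ a, g a = 0 → IsNilpotent a) {M : Type} [CommGroup M] {x : MonoidAlgebra A' M} (hx : IsGL x) :
    ∃ y : MonoidAlgebra A M, IsGL y ∧ ∀ m, g (y.coeff m) = x.coeff m := by
  classical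
  let t := x.coeff.support
  let e : t → A' := fun m => x.coeff m.1
  have he : CompleteOrthogonalIdempotents e := by
    refine ⟨⟨fun m => ?_, fun m n hmn => ?_⟩, ?_⟩
    · have := hx.coeff_mul m.1 m.1; rwa [if_pos rfl] at this
    · show x.coeff m.1 * x.coeff n.1 = 0
      rw [hx.coeff_mul, if_neg (fun h => hmn (Subtype.ext h))]
    · have h2 := hx.2
      rw [MonoidAlgebra.lift_apply, Finsupp.sum] at h2
      rw [← h2, Finset.univ_eq_attach, Finset.sum_attach t (fun m => x.coeff m)]
      simp [t]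
  obtain ⟨f, hf, hfe⟩ := CompleteOrthogonalIdempotents.lift_of_isNilpotent_ker g (fun a ha => hg a ha) he
    (fun m => hs _)
  let y : MonoidAlgebra A M := ∑ m : t, MonoidAlgebra.single m.1 (f m)
  have hy : ∀ m, y.coeff m = if h : m ∈ t then f ⟨m, h⟩ else 0 := by
    intro m
    simp only [y, MonoidAlgebra.coeff_sum, Finsupp.finsetSum_apply, MonoidAlgebra.coeff_single, Finsupp.single_apply]
    split_ifs with h
    · rw [Finset.sum_eq_single (⟨m, h⟩ : t)]
      · simp
      · intro b _ hb
        rw [if_neg fun hbm => hb (Subtype.ext hbm)]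
      · exact fun hh => absurd (Finset.mem_univ _) hh
    · exact Finset.sum_eq_zero fun b _ => if_neg fun hbm : b.1 = m => h (hbm ▸ b.2)
  refine ⟨y, ⟨?_, ?_⟩, fun m => ?_⟩
  · refine MonoidAlgebra.ext (Finsupp.ext fun p => ?_)
    obtain ⟨n, k⟩ := p
    rw [coeff_pair, MonoidAlgebra.coeff_mapDomain]
    by_cases hnk : n = k
    · subst hnk
      rw [show ((n, n) : M × M) = ((MonoidHom.id M).prod (MonoidHom.id M)) n from rfl,
        Finsupp.mapDomain_apply (fun a b e => (Prod.ext_iff.1 e).1), hy]
      split_ifs with h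
      · exact (hf.idem _)
      · exact mul_zero _
    · rw [Finsupp.mapDomain_notin_range]
      · rw [hy, hy]
        split_ifs with h h'
        · exact hf.ortho (fun e => hnk (congrArg Subtype.val e))
        all_goals simp
      · rintro ⟨q, hq⟩
        exact hnk ((Prod.ext_iff.1 hq).1.symm.trans (Prod.ext_iff.1 hq).2)
  · simp only [y, map_sum, MonoidAlgebra.lift_single, MonoidHom.one_apply, smul_eq_mul, _root_.mul_one]
    exact hf.complete
  · rw [hy]
    split_ifs with h
    · exact congrFun hfe ⟨m, h⟩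
    · rw [map_zero, Finsupp.notMem_support_iff.1 h]

theorem IsGL.lift_mul {A B : Type u} [CommRing A] [CommRing B] (a : A →+* B) {M : Type} [CommGroup M]
    {x : MonoidAlgebra A M} (hx : IsGL x) (χ ψ : M →* B) :
    MonoidAlgebra.liftNCRingHom a (χ * ψ) (fun _ _ => Commute.all _ _) x =
      MonoidAlgebra.liftNCRingHom a χ (fun _ _ => Commute.all _ _) x *
      MonoidAlgebra.liftNCRingHom a ψ (fun _ _ => Commute.all _ _) x := by
  let E := MonoidAlgebra.liftNCRingHom a ((χ.comp (MonoidHom.fst M M)) * (ψ.comp (MonoidHom.snd M M)))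
    (fun _ _ => Commute.all _ _)
  have key : ∀ (f : M →* M × M) (y : MonoidAlgebra A M), E (MonoidAlgebra.mapDomain f y) =
      MonoidAlgebra.liftNCRingHom a (((χ.comp (MonoidHom.fst M M)) * (ψ.comp (MonoidHom.snd M M))).comp f)
        (fun _ _ => Commute.all _ _) y := by
    intro f y
    induction y using MonoidAlgebra.induction_linear with
    | zero => simp
    | add p q hp hq => simp [MonoidAlgebra.mapDomain_add, hp, hq]
    | single m c => simp [E, MonoidAlgebra.mapDomain_single, MonoidAlgebra.liftNCRingHom_single]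
  have h := congrArg E hx.1
  rw [map_mul, key, key, key] at h
  let F := (χ.comp (MonoidHom.fst M M)) * (ψ.comp (MonoidHom.snd M M))
  have e1 : F.comp (MonoidHom.inl M M) = χ := MonoidHom.ext fun m => by simp [F]
  have e2 : F.comp (MonoidHom.inr M M) = ψ := MonoidHom.ext fun m => by simp [F]
  have e3 : F.comp ((MonoidHom.id M).prod (MonoidHom.id M)) = χ * ψ := MonoidHom.ext fun m => by simp [F]
  simp only [F] at e1 e2 e3
  simp only [e1, e2, e3] at h
  exact h.symm

variable {S : Scheme.{u}} {R : Type u} [CommRing R] (j : Spec (CommRingCat.of R) ⟶ S)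
  (H H' : Over S) [GrpObj H] [GrpObj H'] (J : Ideal R)

/-- a homomorphism given on points over algebras killed by `J` -/
structure PointHom where
  f : ∀ (C : Type u) [CommRing C] [Algebra R C], (∀ r ∈ J, algebraMap R C r = 0) → (X j C ⟶ H) → (X j C ⟶ H')
  mul : ∀ (C : Type u) [CommRing C] [Algebra R C] (hC : ∀ r ∈ J, algebraMap R C r = 0) (a b : X j C ⟶ H),
    f C hC (a * b) = f C hC a * f C hC b
  nat : ∀ {C D : Type u} [CommRing C] [Algebra R C] [CommRing D] [Algebra R D] (h : C →ₐ[R] D)
    (hC : ∀ r ∈ J, algebraMap R C r = 0) (hD : ∀ r ∈ J, algebraMap R D r = 0) (a : X j C ⟶ H),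
    f D hD (mor j h ≫ a) = mor j h ≫ f C hC a

variable {j H H' J} {M N : Type} [CommGroup M] [CommGroup N] (e : Chart j H M) (e' : Chart j H' N)

theorem Chart.pt_one {C : Type u} [CommRing C] [Algebra R C] : e.pt (1 : M →* C) = 1 := by
  have h := e.pt_mul (1 : M →* C) 1
  rw [_root_.one_mul] at h
  exact left_eq_mul.1 h

namespace PointHom

variable (F : PointHom j H H' J)

theorem kill_bar (r : R) (hr : r ∈ J) : algebraMap R (R ⧸ J) r = 0 := Ideal.Quotient.eq_zero_iff_mem.2 hr

theorem kill_monoidAlgebra (P : Type) [CommGroup P] (r : R) (hr : r ∈ J) :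
    algebraMap R (MonoidAlgebra (R ⧸ J) P) r = 0 := by
  rw [IsScalarTower.algebraMap_apply R (R ⧸ J) (MonoidAlgebra (R ⧸ J) P), kill_bar r hr, map_zero]

/-- evaluation of a killed algebra at a character -/
def evq {C : Type u} [CommRing C] [Algebra R C] (hC : ∀ r ∈ J, algebraMap R C r = 0) (ψ : M →* C) :
    MonoidAlgebra (R ⧸ J) M →ₐ[R] C :=
  MonoidAlgebra.liftNCAlgHom (Ideal.Quotient.liftₐ J (Algebra.ofId R C) hC) ψ (fun _ _ => Commute.all _ _)

theorem evq_of {C : Type u} [CommRing C] [Algebra R C] (hC : ∀ r ∈ J, algebraMap R C r = 0) (ψ : M →* C) :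
    ((evq hC ψ : _ →ₐ[R] _) : MonoidAlgebra (R ⧸ J) M →* C).comp (MonoidAlgebra.of _ M) = ψ := by
  refine MonoidHom.ext fun m => ?_
  simp [evq, MonoidAlgebra.liftNCAlgHom, MonoidAlgebra.liftNCRingHom_single]

/-- the transition characters -/
def char : N →* MonoidAlgebra (R ⧸ J) M :=
  Classical.choose ((e'.bij _).2 (F.f _ (kill_monoidAlgebra M) (e.pt (MonoidAlgebra.of (R ⧸ J) M))))

theorem pt_char : e'.pt (F.char e e') = F.f _ (kill_monoidAlgebra M) (e.pt (MonoidAlgebra.of (R ⧸ J) M)) :=
  Classical.choose_spec ((e'.bij _).2 (F.f _ (kill_monoidAlgebra M) (e.pt (MonoidAlgebra.of (R ⧸ J) M))))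

theorem f_eq {C : Type u} [CommRing C] [Algebra R C] (hC : ∀ r ∈ J, algebraMap R C r = 0) (ψ : M →* C) :
    F.f C hC (e.pt ψ) = e'.pt (((evq hC ψ : _ →ₐ[R] _) : MonoidAlgebra (R ⧸ J) M →* C).comp (F.char e e')) := by
  rw [← e'.nat, pt_char, ← F.nat, e.nat, evq_of]

theorem evq_mapDomain (f : M →* M × M) (x : MonoidAlgebra (R ⧸ J) M) :
    evq (C := MonoidAlgebra (R ⧸ J) (M × M)) (kill_monoidAlgebra (M × M)) ((MonoidAlgebra.of _ (M × M)).comp f) x =
      MonoidAlgebra.mapDomain f x := by
  induction x using MonoidAlgebra.induction_linear with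
  | zero => simp
  | add p q hp hq => simp [hp, hq, MonoidAlgebra.mapDomain_add]
  | single a c =>
    obtain ⟨c, rfl⟩ := Ideal.Quotient.mk_surjective c
    simp [evq, MonoidAlgebra.liftNCAlgHom, MonoidAlgebra.liftNCRingHom_single, MonoidAlgebra.mapDomain_single,
      Algebra.ofId_apply, IsScalarTower.algebraMap_apply R (R ⧸ J) (MonoidAlgebra (R ⧸ J) (M × M)),
      MonoidAlgebra.coe_algebraMap, MonoidAlgebra.single_mul_single]

theorem isGL_char (n : N) : IsGL (F.char e e' n) := by
  constructor
  · have hdiag : (MonoidAlgebra.of (R ⧸ J) (M × M)).comp (MonoidHom.inl M M) *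
        (MonoidAlgebra.of (R ⧸ J) (M × M)).comp (MonoidHom.inr M M) =
        (MonoidAlgebra.of (R ⧸ J) (M × M)).comp ((MonoidHom.id M).prod (MonoidHom.id M)) := by
      refine MonoidHom.ext fun x => ?_
      rw [MonoidHom.mul_apply]
      simp [MonoidAlgebra.single_mul_single]
    have h1 := F.f_eq e e' (kill_monoidAlgebra (M × M))
      ((MonoidAlgebra.of (R ⧸ J) (M × M)).comp ((MonoidHom.id M).prod (MonoidHom.id M)))
    rw [← hdiag, e.pt_mul, F.mul, F.f_eq e e', F.f_eq e e', ← e'.pt_mul] at h1
    have h2 := congrArg (fun z => z n) ((e'.bij _).1 h1)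
    rw [hdiag] at h2
    simpa only [MonoidHom.mul_apply, MonoidHom.comp_apply, AlgHom.coe_toMonoidHom, MonoidHom.coe_coe, evq_mapDomain] using h2
  · have h1 := F.f_eq e e' (fun r hr => kill_bar r hr) (1 : M →* R ⧸ J)
    rw [e.pt_one] at h1
    have h2 : F.f _ (fun r hr => kill_bar r hr) (1 : X j (R ⧸ J) ⟶ H) = 1 := by
      have h := F.mul _ (fun r hr => kill_bar r hr) (1 : X j (R ⧸ J) ⟶ H) 1
      rw [_root_.one_mul] at h
      exact left_eq_mul.1 h
    rw [h2, ← e'.pt_one] at h1
    have h3 := congrArg (fun z => z n) ((e'.bij _).1 h1)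
    refine Eq.trans ?_ h3.symm
    show MonoidAlgebra.lift (R ⧸ J) (R ⧸ J) M 1 _ = evq _ 1 _
    induction (F.char e e' n) using MonoidAlgebra.induction_linear with
    | zero => simp
    | add p q hp hq => simp [hp, hq]
    | single a c =>
      obtain ⟨c, rfl⟩ := Ideal.Quotient.mk_surjective c
      simp [evq, MonoidAlgebra.liftNCAlgHom, MonoidAlgebra.liftNCRingHom_single]

end PointHom

include e e' in
/-- point homomorphisms agreeing modulo a nilpotent ideal are equal -/
theorem PointHom.ext_of_nilpotent {J' : Ideal R} (hJ : ∀ x ∈ J', IsNilpotent x) (F G : PointHom j H H' ⊥)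
    (h : ∀ (C : Type u) [CommRing C] [Algebra R C] (hC : ∀ r ∈ (⊥ : Ideal R), algebraMap R C r = 0),
      (∀ r ∈ J', algebraMap R C r = 0) → ∀ a, F.f C hC a = G.f C hC a)
    (C : Type u) [CommRing C] [Algebra R C] (hC : ∀ r ∈ (⊥ : Ideal R), algebraMap R C r = 0) (a : X j C ⟶ H) :
    F.f C hC a = G.f C hC a := by
  obtain ⟨ψ, rfl⟩ := (e.bij C).2 a
  suffices hχ : F.char e e' = G.char e e' by rw [F.f_eq e e', G.f_eq e e', hχ]
  refine MonoidHom.ext fun n => ?_
  let g : (R ⧸ (⊥ : Ideal R)) →+* R ⧸ J' := Ideal.Quotient.factor bot_le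
  have hg : ∀ a, g a = 0 → IsNilpotent a := by
    intro a ha
    obtain ⟨a, rfl⟩ := Ideal.Quotient.mk_surjective a
    rw [Ideal.Quotient.factor_mk, Ideal.Quotient.eq_zero_iff_mem] at ha
    exact (hJ a ha).map _
  refine IsGL.ext g hg (F.isGL_char e e' n) (G.isGL_char e e' n) fun m => ?_
  have hkill : ∀ r ∈ J', algebraMap R (MonoidAlgebra (R ⧸ J') M) r = 0 := PointHom.kill_monoidAlgebra M
  have hbot : ∀ r ∈ (⊥ : Ideal R), algebraMap R (MonoidAlgebra (R ⧸ J') M) r = 0 := fun r hr => by
    rw [Ideal.mem_bot.1 hr, map_zero]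
  have h1 := h _ hbot hkill (e.pt (MonoidAlgebra.of (R ⧸ J') M))
  rw [F.f_eq e e', G.f_eq e e'] at h1
  have h2 := congrArg (fun z => MonoidAlgebra.coeff (z n) m) ((e'.bij _).1 h1)
  have key : ∀ x : MonoidAlgebra (R ⧸ (⊥ : Ideal R)) M,
      (PointHom.evq hbot (MonoidAlgebra.of (R ⧸ J') M) x).coeff m = g (x.coeff m) := by
    classical
    intro x
    induction x using MonoidAlgebra.induction_linear with
    | zero => simp
    | add p q hp hq => simp [hp, hq]
    | single a c =>
      obtain ⟨c, rfl⟩ := Ideal.Quotient.mk_surjective c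
      simp [PointHom.evq, MonoidAlgebra.liftNCAlgHom, MonoidAlgebra.liftNCRingHom_single, g,
        Algebra.ofId_apply, IsScalarTower.algebraMap_apply R (R ⧸ J') (MonoidAlgebra (R ⧸ J') M),
        MonoidAlgebra.coe_algebraMap, MonoidAlgebra.single_mul_single, MonoidAlgebra.coeff_single,
        Finsupp.single_apply, apply_ite (Ideal.Quotient.factor (bot_le : (⊥ : Ideal R) ≤ J'))]
  simp only [MonoidHom.comp_apply, AlgHom.coe_toMonoidHom, MonoidHom.coe_coe, key] at h2
  exact h2

include e e' in
/-- lifting along a nilpotent ideal -/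
theorem PointHom.exists_lift (hJ : ∀ x ∈ J, IsNilpotent x) (F : PointHom j H H' J) :
    ∃ G : PointHom j H H' ⊥, ∀ (C : Type u) [CommRing C] [Algebra R C] (hC : ∀ r ∈ J, algebraMap R C r = 0)
      (hC0 : ∀ r ∈ (⊥ : Ideal R), algebraMap R C r = 0) (a : X j C ⟶ H), G.f C hC0 a = F.f C hC a := by
  classical
  have hg : ∀ a, Ideal.Quotient.mk J a = 0 → IsNilpotent a := fun a ha => hJ a (Ideal.Quotient.eq_zero_iff_mem.1 ha)
  choose y hy hyx using fun n => (F.isGL_char e e' n).exists_lift (Ideal.Quotient.mk J) Ideal.Quotient.mk_surjective hg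
  have hred : ∀ {C : Type u} [CommRing C] [Algebra R C] (hC : ∀ r ∈ J, algebraMap R C r = 0) (ψ : M →* C) (n : N),
      MonoidAlgebra.lift R C M ψ (y n) = PointHom.evq hC ψ (F.char e e' n) := by
    intro C _ _ hC ψ n
    let red : MonoidAlgebra R M →ₐ[R] MonoidAlgebra (R ⧸ J) M :=
      MonoidAlgebra.lift R _ M (MonoidAlgebra.of (R ⧸ J) M)
    have hredc : ∀ (x : MonoidAlgebra R M) m, (red x).coeff m = Ideal.Quotient.mk J (x.coeff m) := by
      intro x m
      induction x using MonoidAlgebra.induction_linear with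
      | zero => simp
      | add p q hp hq => simp [hp, hq]
      | single a c =>
        simp [red, MonoidAlgebra.lift_single, Algebra.smul_def, MonoidAlgebra.coe_algebraMap,
          MonoidAlgebra.single_mul_single, MonoidAlgebra.coeff_single, Finsupp.single_apply,
          apply_ite (Ideal.Quotient.mk J)]
    have h1 : (PointHom.evq hC ψ).comp red = MonoidAlgebra.lift R C M ψ := by
      refine MonoidAlgebra.algHom_ext (fun m => ?_) (AlgHom.ext fun r => ?_)
      · simp [red, PointHom.evq, MonoidAlgebra.liftNCAlgHom, MonoidAlgebra.liftNCRingHom_single]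
      · simp [red, PointHom.evq, MonoidAlgebra.liftNCAlgHom, MonoidAlgebra.liftNCRingHom_single,
          Algebra.smul_def, MonoidAlgebra.coe_algebraMap, MonoidAlgebra.single_mul_single]
    rw [← h1, AlgHom.comp_apply]
    congr 1
    exact MonoidAlgebra.ext (Finsupp.ext fun m => by rw [hredc, hyx])
  let χ : N →* MonoidAlgebra R M :=
    { toFun := y
      map_one' := by
        refine IsGL.ext (Ideal.Quotient.mk J) hg (hy 1) ⟨?_, map_one _⟩ fun m => ?_
        · simp [MonoidAlgebra.one_def, MonoidAlgebra.mapDomain_single, MonoidAlgebra.single_mul_single]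
        · rw [hyx, map_one, MonoidAlgebra.one_def, MonoidAlgebra.one_def, MonoidAlgebra.coeff_single,
            MonoidAlgebra.coeff_single, Finsupp.single_apply, Finsupp.single_apply]
          split_ifs <;> simp
      map_mul' := fun n k => by
        refine IsGL.ext (Ideal.Quotient.mk J) hg (hy _) ((hy n).mul (hy k)) fun m => ?_
        rw [hyx, map_mul]
        have h1 := hred (C := MonoidAlgebra (R ⧸ J) M) (PointHom.kill_monoidAlgebra M) (MonoidAlgebra.of (R ⧸ J) M)
        have hid : ∀ x, PointHom.evq (PointHom.kill_monoidAlgebra M) (MonoidAlgebra.of (R ⧸ J) M) x = x := by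
          intro x
          induction x using MonoidAlgebra.induction_linear with
          | zero => simp
          | add p q hp hq => simp [hp, hq]
          | single a c =>
            obtain ⟨c, rfl⟩ := Ideal.Quotient.mk_surjective c
            simp [PointHom.evq, MonoidAlgebra.liftNCAlgHom, MonoidAlgebra.liftNCRingHom_single,
              Algebra.ofId_apply, IsScalarTower.algebraMap_apply R (R ⧸ J) (MonoidAlgebra (R ⧸ J) M),
              MonoidAlgebra.coe_algebraMap, MonoidAlgebra.single_mul_single]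
        have hcoeff : ∀ (x : MonoidAlgebra R M) m,
            (MonoidAlgebra.lift R (MonoidAlgebra (R ⧸ J) M) M (MonoidAlgebra.of (R ⧸ J) M) x).coeff m =
              Ideal.Quotient.mk J (x.coeff m) := by
          intro x m
          induction x using MonoidAlgebra.induction_linear with
          | zero => simp
          | add p q hp hq => simp [hp, hq]
          | single a c =>
            simp [MonoidAlgebra.lift_single, Algebra.smul_def, MonoidAlgebra.coe_algebraMap,
              MonoidAlgebra.single_mul_single, MonoidAlgebra.coeff_single, Finsupp.single_apply,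
              apply_ite (Ideal.Quotient.mk J)]
        rw [← hcoeff, map_mul, h1, h1, hid, hid] }
  let inv (C : Type u) [CommRing C] [Algebra R C] (a : X j C ⟶ H) : M →* C := ((e.bij C).2 a).choose
  have hinv : ∀ (C : Type u) [CommRing C] [Algebra R C] (a : X j C ⟶ H), e.pt (inv C a) = a :=
    fun C _ _ a => ((e.bij C).2 a).choose_spec
  let Gf (C : Type u) [CommRing C] [Algebra R C] (a : X j C ⟶ H) : X j C ⟶ H' :=
    e'.pt (((MonoidAlgebra.lift R C M (inv C a) : _ →ₐ[R] _) : MonoidAlgebra R M →* C).comp χ)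
  refine ⟨{
    f := fun C _ _ _ a => Gf C a
    mul := fun C _ _ _ a b => ?_
    nat := fun {C D} _ _ _ _ h _ _ a => ?_ }, fun C _ _ hC _ a => ?_⟩
  · have h1 : inv C (a * b) = inv C a * inv C b := (e.bij C).1 (by rw [hinv, e.pt_mul, hinv, hinv])
    simp only [Gf, h1, ← e'.pt_mul]
    congr 1
    exact MonoidHom.ext fun n => IsGL.lift_mul (algebraMap R C) (hy n) (inv C a) (inv C b)
  · have h1 : inv D (mor j h ≫ a) = (h : C →* D).comp (inv C a) := (e.bij D).1 (by rw [hinv, ← e.nat, hinv])
    simp only [Gf, h1, e'.nat]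
    congr 1
    refine MonoidHom.ext fun n => ?_
    show MonoidAlgebra.lift R D M _ (χ n) = h (MonoidAlgebra.lift R C M _ (χ n))
    rw [← AlgHom.comp_apply]
    congr 1
    exact MonoidAlgebra.algHom_ext (fun m => by simp) (AlgHom.ext fun r => by simp)
  · show Gf C a = _
    conv_rhs => rw [← hinv C a, F.f_eq e e']
    simp only [Gf]
    congr 1
    exact MonoidHom.ext fun n => hred hC (inv C a) n

end Groth.L25.Cocycle
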