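import Groth.Agent.L20.Pinch.Ring
import Mathlib.Algebra.MonoidAlgebra.Basic
import Mathlib.Algebra.MonoidAlgebra.Lift
import Mathlib.RingTheory.Ideal.Quotient.Operations

/-!
# Averaging a cocycle of a diagonalisable group: the ring theory

`sub R J C M` is the ring of elements of `C[M]` congruent modulo `J` to a constant; on it the
coefficient of `1` is multiplicative when `J` has square zero.
-/

set_option autoImplicit false
universe u

noncomputable section

namespace Groth.L25.Cocycle

open MonoidAlgebra

variable {R : Type u} [CommRing R] (J : Ideal R) (C : Type u) [CommRing C] [Algebra R C]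
  (M : Type) [CommGroup M]

/-- the ideal generated by `J` -/
abbrev JC : Ideal C := J.map (algebraMap R C)

/-- reduction of the coefficients -/
def redC : MonoidAlgebra C M →ₐ[C] MonoidAlgebra (C ⧸ JC J C) M :=
  MonoidAlgebra.lift C _ M (MonoidAlgebra.of (C ⧸ JC J C) M)

/-- the constant congruent to an element of `sub` -/
def constPart : MonoidAlgebra C M →ₐ[C] MonoidAlgebra (C ⧸ JC J C) M :=
  (IsScalarTower.toAlgHom C (C ⧸ JC J C) (MonoidAlgebra (C ⧸ JC J C) M)).comp
    ((Ideal.Quotient.mkₐ C (JC J C)).comp (MonoidAlgebra.lift C C M 1))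

/-- elements congruent to constants -/
def sub : Subalgebra C (MonoidAlgebra C M) := AlgHom.equalizer (redC J C M) (constPart J C M)

variable {J C M}

theorem coeff_redC (x : MonoidAlgebra C M) (m : M) :
    (redC J C M x).coeff m = Ideal.Quotient.mk (JC J C) (x.coeff m) := by
  classical
  induction x using MonoidAlgebra.induction_linear with
  | zero => simp
  | add p q hp hq => simp [hp, hq]
  | single a c =>
    rw [redC, MonoidAlgebra.lift_single, Algebra.smul_def,
      IsScalarTower.algebraMap_apply C (C ⧸ JC J C) (MonoidAlgebra (C ⧸ JC J C) M)]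
    simp [MonoidAlgebra.coe_algebraMap, MonoidAlgebra.single_mul_single,
      MonoidAlgebra.coeff_single, Finsupp.single_apply, apply_ite (Ideal.Quotient.mk (JC J C))]

theorem coeff_constPart (x : MonoidAlgebra C M) {m : M} (hm : m ≠ 1) :
    (constPart J C M x).coeff m = 0 := by
  simp [constPart, MonoidAlgebra.coe_algebraMap, MonoidAlgebra.coeff_single, Ne.symm hm]

theorem mem_sub_iff (x : MonoidAlgebra C M) :
    x ∈ sub J C M ↔ ∀ m, m ≠ 1 → x.coeff m ∈ JC J C := by
  classical
  show redC J C M x = constPart J C M x ↔ _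
  constructor
  · intro h m hm
    rw [← Ideal.Quotient.eq_zero_iff_mem, ← coeff_redC, h, coeff_constPart x hm]
  · intro h
    refine MonoidAlgebra.ext (Finsupp.ext fun m => ?_)
    rw [coeff_redC]
    by_cases hm : m = 1
    · subst hm
      simp only [constPart, AlgHom.comp_apply, IsScalarTower.coe_toAlgHom', Ideal.Quotient.mkₐ_eq_mk,
        MonoidAlgebra.coe_algebraMap, Function.comp_apply, MonoidAlgebra.coeff_single,
        Finsupp.single_eq_same, Algebra.algebraMap_self, RingHom.id_apply]
      rw [MonoidAlgebra.lift_apply, Finsupp.sum, map_sum, Finset.sum_eq_single (1 : M)]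
      · simp
      · intro n _ hn
        simp [Ideal.Quotient.eq_zero_iff_mem.2 (h n hn)]
      · intro hn
        simp [Finsupp.notMem_support_iff.1 hn]
    · rw [coeff_constPart x hm, Ideal.Quotient.eq_zero_iff_mem]
      exact h m hm

/-- the part away from `1` -/
def away (x : MonoidAlgebra C M) : MonoidAlgebra C M := x - MonoidAlgebra.single 1 (x.coeff 1)

theorem coeff_away (x : MonoidAlgebra C M) (hx : x ∈ sub J C M) (m : M) : (away x).coeff m ∈ JC J C := by
  classical
  by_cases hm : m = 1
  · subst hm; simp [away]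
  · simp [away, Finsupp.single_apply, Ne.symm hm, (mem_sub_iff x).1 hx m hm]

theorem mul_eq_zero_of_coeff (hJ : J * J = ⊥) {x y : MonoidAlgebra C M} (hx : ∀ m, x.coeff m ∈ JC J C)
    (hy : ∀ m, y.coeff m ∈ JC J C) : x * y = 0 := by
  classical
  have h2 : JC J C * JC J C = ⊥ := by rw [← Ideal.map_mul, hJ, Ideal.map_bot]
  rw [← MonoidAlgebra.sum_single x, ← MonoidAlgebra.sum_single y, Finsupp.sum, Finsupp.sum,
    Finset.sum_mul_sum]
  refine Finset.sum_eq_zero fun m _ => Finset.sum_eq_zero fun n _ => ?_
  have h3 := Ideal.mul_mem_mul (hx m) (hy n)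
  rw [h2, Ideal.mem_bot] at h3
  rw [MonoidAlgebra.single_mul_single, h3, MonoidAlgebra.single_zero]

theorem coeff_single_one_mul (r : C) (x : MonoidAlgebra C M) (k : M) :
    (MonoidAlgebra.single 1 r * x).coeff k = r * x.coeff k :=
  MonoidAlgebra.coeff_single_mul_eq_mul_coeff k (fun _ _ => by simp)

variable (J C M) in
/-- the coefficient of `1` is multiplicative on `sub` -/
def π (hJ : J * J = ⊥) : sub J C M →ₐ[C] C where
  toFun x := x.1.coeff 1
  map_one' := by simp [MonoidAlgebra.one_def]
  map_mul' x y := by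
    classical
    show (x.1 * y.1).coeff 1 = x.1.coeff 1 * y.1.coeff 1
    have e : x.1 * y.1 = MonoidAlgebra.single 1 (x.1.coeff 1 * y.1.coeff 1) +
        (MonoidAlgebra.single 1 (x.1.coeff 1) * away y.1 + away x.1 * MonoidAlgebra.single 1 (y.1.coeff 1)) +
        away x.1 * away y.1 := by
      rw [show MonoidAlgebra.single (1 : M) (x.1.coeff 1 * y.1.coeff 1) =
        MonoidAlgebra.single 1 (x.1.coeff 1) * MonoidAlgebra.single 1 (y.1.coeff 1) by simp]
      simp only [away]
      ring
    rw [e, mul_eq_zero_of_coeff hJ (coeff_away x.1 x.2) (coeff_away y.1 y.2)]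
    rw [mul_comm (away x.1) (MonoidAlgebra.single 1 (y.1.coeff 1))]
    simp [away, coeff_single_one_mul]
  map_zero' := by simp
  map_add' x y := by simp
  commutes' c := by simp [MonoidAlgebra.coe_algebraMap]

theorem π_apply (hJ : J * J = ⊥) (x : sub J C M) : π J C M hJ x = x.1.coeff 1 := rfl

variable (J C M) in
/-- the value modulo `J` -/
def toQuot : sub J C M →ₐ[C] C ⧸ JC J C :=
  ((Ideal.Quotient.mkₐ C (JC J C)).comp (MonoidAlgebra.lift C C M 1)).comp (sub J C M).val

theorem mk_π (hJ : J * J = ⊥) (x : sub J C M) :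
    Ideal.Quotient.mk (JC J C) (π J C M hJ x) = toQuot J C M x := by
  rw [π_apply]
  refine Eq.trans (coeff_redC x.1 1).symm ?_
  rw [show redC J C M x.1 = constPart J C M x.1 from x.2]
  simp [constPart, toQuot, MonoidAlgebra.coe_algebraMap]

variable (J C M) in
/-- `sub` is a fibre product -/
theorem isFib : Groth.L20.Pinch.IsFib (toQuot J C M).toRingHom (sub J C M).val.toRingHom
    (algebraMap (C ⧸ JC J C) (MonoidAlgebra (C ⧸ JC J C) M)) (redC J C M).toRingHom where
  comm := RingHom.ext fun x => (show redC J C M x.1 = constPart J C M x.1 from x.2).symm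
  inj t _ h := Subtype.ext h
  glue a y h := by
    have h' : algebraMap (C ⧸ JC J C) (MonoidAlgebra (C ⧸ JC J C) M) a = redC J C M y := h
    have hy : y ∈ sub J C M := (mem_sub_iff y).2 fun m hm => by
      rw [← Ideal.Quotient.eq_zero_iff_mem, ← coeff_redC, ← h']
      simp [MonoidAlgebra.coe_algebraMap, MonoidAlgebra.coeff_single, Ne.symm hm]
    refine ⟨⟨y, hy⟩, ?_, rfl⟩
    have h2 : algebraMap (C ⧸ JC J C) (MonoidAlgebra (C ⧸ JC J C) M) (toQuot J C M ⟨y, hy⟩) =
        algebraMap (C ⧸ JC J C) (MonoidAlgebra (C ⧸ JC J C) M) a :=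
      ((show redC J C M y = constPart J C M y from hy).symm).trans h'.symm
    have h3 := congrArg (fun z => MonoidAlgebra.coeff z 1) h2
    simpa [MonoidAlgebra.coe_algebraMap] using h3
  surj := fun y => by
    induction y using MonoidAlgebra.induction_linear with
    | zero => exact ⟨0, map_zero _⟩
    | add p q hp hq =>
      obtain ⟨a, ha⟩ := hp
      obtain ⟨b, hb⟩ := hq
      exact ⟨a + b, by rw [map_add, ha, hb]⟩
    | single m c =>
      obtain ⟨c, rfl⟩ := Ideal.Quotient.mk_surjective c
      refine ⟨MonoidAlgebra.single m c, ?_⟩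
      show redC J C M (MonoidAlgebra.single m c) = _
      rw [redC, MonoidAlgebra.lift_single, Algebra.smul_def,
        IsScalarTower.algebraMap_apply C (C ⧸ JC J C) (MonoidAlgebra (C ⧸ JC J C) M)]
      simp [MonoidAlgebra.coe_algebraMap, MonoidAlgebra.single_mul_single]

section Map

variable {D : Type u} [CommRing D] [Algebra R D] {N : Type} [CommGroup N]
  (h : C →ₐ[R] D) (χ : M →* MonoidAlgebra D N)

/-- the map of a ring map and a family of characters -/
def twist : MonoidAlgebra C M →ₐ[R] MonoidAlgebra D N :=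
  MonoidAlgebra.liftNCAlgHom ((IsScalarTower.toAlgHom R D (MonoidAlgebra D N)).comp h) χ
    (fun _ _ => Commute.all _ _)

theorem twist_single (m : M) (c : C) :
    twist h χ (MonoidAlgebra.single m c) = algebraMap D (MonoidAlgebra D N) (h c) * χ m := by
  simp [twist, MonoidAlgebra.liftNCAlgHom, MonoidAlgebra.liftNCRingHom_single]

theorem twist_algebraMap (c : C) :
    twist h χ (algebraMap C (MonoidAlgebra C M) c) = algebraMap D (MonoidAlgebra D N) (h c) := by
  rw [MonoidAlgebra.coe_algebraMap, Function.comp_apply, twist_single, map_one, mul_one]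
  rfl

theorem map_mem_JC {c : C} (hc : c ∈ JC J C) : h c ∈ JC J D := by
  have : (JC J C).map h.toRingHom ≤ JC J D := by
    rw [Ideal.map_map, AlgHom.toRingHom_eq_coe, AlgHom.comp_algebraMap]
  exact this (Ideal.mem_map_of_mem _ hc)

theorem coeff_twist (x : MonoidAlgebra C M) (k : N) :
    (twist h χ x).coeff k = x.coeff.sum fun m c => h c * (χ m).coeff k := by
  classical
  induction x using MonoidAlgebra.induction_linear with
  | zero => simp
  | add p q hp hq =>
    rw [map_add, MonoidAlgebra.coeff_add, Finsupp.add_apply, hp, hq, MonoidAlgebra.coeff_add,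
      Finsupp.sum_add_index (fun _ _ => by simp) (fun _ _ _ _ => by rw [map_add, add_mul])]
  | single a c =>
    rw [twist_single, MonoidAlgebra.coeff_single, Finsupp.sum_single_index (by simp),
      MonoidAlgebra.coe_algebraMap, Function.comp_apply, coeff_single_one_mul]
    simp

theorem twist_mem {x : MonoidAlgebra C M} (hx : x ∈ sub J C M) : twist h χ x ∈ sub J D N := by
  classical
  refine (mem_sub_iff _).2 fun k hk => ?_
  rw [coeff_twist]
  refine sum_mem fun m _ => ?_
  show h (x.coeff m) * (χ m).coeff k ∈ JC J D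
  by_cases hm : m = 1
  · subst hm
    simp [MonoidAlgebra.one_def, MonoidAlgebra.coeff_single, Ne.symm hk]
  · exact Ideal.mul_mem_right _ _ (map_mem_JC h ((mem_sub_iff x).1 hx m hm))

/-- functoriality of `sub` -/
def subMap : sub J C M →ₐ[R] sub J D N :=
  AlgHom.codRestrict ((twist h χ).comp ((sub J C M).val.restrictScalars R))
    ((sub J D N).restrictScalars R) fun x => twist_mem h χ x.2

theorem val_subMap (x : sub J C M) : (subMap (J := J) h χ x).1 = twist h χ x.1 := rfl

theorem π_subMap (hJ : J * J = ⊥) (hχ : ∀ m, m ≠ 1 → (χ m).coeff 1 = 0) (x : sub J C M) :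
    π J D N hJ (subMap h χ x) = h (π J C M hJ x) := by
  classical
  rw [π_apply, π_apply, val_subMap, coeff_twist, Finsupp.sum, Finset.sum_eq_single (1 : M)]
  · simp [MonoidAlgebra.one_def]
  · intro m _ hm
    rw [hχ m hm, mul_zero]
  · intro hm
    rw [Finsupp.notMem_support_iff.1 hm, map_zero, zero_mul]

theorem toQuot_subMap (hJ : J * J = ⊥) (x : sub J C M) :
    toQuot J D N (subMap h χ x) = Ideal.quotientMap (JC J D) h.toRingHom
      (fun _ hc => map_mem_JC h hc) (toQuot J C M x) := by
  classical
  rw [← mk_π hJ, ← mk_π hJ, Ideal.quotientMap_mk, π_apply, val_subMap, coeff_twist, Finsupp.sum, map_sum,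
    Finset.sum_eq_single (1 : M)]
  · simp [MonoidAlgebra.one_def, π_apply]
  · intro m _ hm
    exact Ideal.Quotient.eq_zero_iff_mem.2 (Ideal.mul_mem_right _ _ (map_mem_JC h ((mem_sub_iff x.1).1 x.2 m hm)))
  · intro hm
    rw [Finsupp.notMem_support_iff.1 hm, map_zero, zero_mul, map_zero]

end Map

end Groth.L25.Cocycle
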